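import Groth.Agent.CommUnipLib.Split
import Groth.Agent.MultType.BaseChange
import Groth.Agent.MultType.Chart

/-! The largest subgroup of multiplicative type of a commutative affine group. -/

set_option autoImplicit false
set_option backward.isDefEq.respectTransparency false
universe u

open TensorProduct WithConv

noncomputable section

namespace Groth.Agent.CommUnip

open Groth.Agent.Comodule

variable {k : Type u} [Field k] {A : Type u} [CommRing A] [HopfAlgebra k A]

theorem baseChange_smul (K : Type u) [Field K] [Algebra k K] (f : WithConv (A →ₗ[k] k)) (z : K ⊗[k] A) :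
    toConv ((TensorProduct.AlgebraTensorModule.rid k K K).toLinearMap ∘ₗ f.ofConv.baseChange K) • z =
      LinearMap.baseChange K (dact (V := A) f.ofConv) z := by
  induction z with
  | zero => simp
  | add p q hp hq => rw [smul_add, map_add, hp, hq]
  | tmul c a =>
    rw [show c ⊗ₜ[k] a = c • ((1 : K) ⊗ₜ[k] a) from by simp [TensorProduct.smul_tmul'], smul_comm, map_smul]
    refine congrArg (c • ·) ?_
    rw [LinearMap.baseChange_tmul, smul_def, dact, LinearMap.comp_apply, coact_regular, comul_one_tmul]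
    change rcon _ _ = _
    rw [rcon_mapOfCompatible, dact, LinearMap.comp_apply, coact_regular]
    induction Coalgebra.comul (R := k) a with
    | zero => simp
    | add p q hp hq => simp only [map_add, TensorProduct.tmul_add, hp, hq]
    | tmul p q => simp [rcon, TensorProduct.smul_tmul', TensorProduct.tmul_smul]

theorem fil_baseChange_le (K : Type u) [Field K] [Algebra k K] (n : ℕ) :
    fil K (K ⊗[k] A) (K ⊗[k] A) n ≤ Submodule.span K ((fun a => (1 : K) ⊗ₜ[k] a) '' (fil k A A n : Set A)) := by
  classical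
  let e := Module.Basis.ofVectorSpace k K
  let c := TensorProduct.equivFinsuppOfBasisLeft (N := A) e
  have hc : ∀ (T : A →ₗ[k] A) (z : K ⊗[k] A) i, c (LinearMap.baseChange K T z) i = T (c z i) := by
    intro T z i
    induction z with
    | zero => simp
    | add p q hp hq => simp only [map_add, Finsupp.add_apply, hp, hq]
    | tmul s a => simp [c]
  have key : ∀ (n : ℕ) (z : K ⊗[k] A), z ∈ fil K (K ⊗[k] A) (K ⊗[k] A) n → ∀ i, c z i ∈ fil k A A n := by
    intro n
    induction n with
    | zero =>
      intro z hz i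
      rw [fil_zero, Submodule.mem_bot] at hz ⊢
      simp [hz]
    | succ n ih =>
      intro z hz i
      refine mem_fil_succ.mpr fun f hf => ?_
      have h1 := ih _ (mem_fil_succ.mp hz
        (toConv ((TensorProduct.AlgebraTensorModule.rid k K K).toLinearMap ∘ₗ f.ofConv.baseChange K))
        (by simp [Algebra.TensorProduct.one_def, hf])) i
      rw [baseChange_smul, hc] at h1
      exact h1
  intro z hz
  rw [show z = (c z).sum fun i m => e i ⊗ₜ[k] m from by
    conv_lhs => rw [← c.symm_apply_apply z]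
    rw [TensorProduct.equivFinsuppOfBasisLeft_symm_apply]]
  refine Submodule.sum_mem _ fun i _ => ?_
  show e i ⊗ₜ[k] (c z i) ∈ _
  rw [show e i ⊗ₜ[k] (c z i) = e i • ((1 : K) ⊗ₜ[k] (c z i)) from by simp [TensorProduct.smul_tmul']]
  exact Submodule.smul_mem _ _ (Submodule.subset_span ⟨_, key n z hz i, rfl⟩)

theorem primitive_eq_zero_of_multType {C : Type u} [CommRing C] [HopfAlgebra k C] (h : SGA3b.IsMultTypeConst k C)
    (f : C) (hf : Coalgebra.comul (R := k) f = f ⊗ₜ[k] (1 : C) + (1 : C) ⊗ₜ[k] f) : f = 0 := by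
  obtain ⟨R', _, _, _, hD⟩ := h
  haveI : Nontrivial R' := (FaithfulSMul.algebraMap_injective k R').nontrivial
  obtain ⟨m, hm⟩ := Ideal.exists_maximal R'
  letI := Ideal.Quotient.field m
  let K := R' ⧸ m
  obtain ⟨M, _, ⟨e⟩⟩ := MultType.isDiag_tensor K hD
  let e' : MonoidAlgebra K M ≃ₐc[K] K ⊗[k] C := e.symm.trans (MultType.cbc (R := k) (A := C) R' K)
  have hdiag : HopfRep.IsDiagonalizable K (K ⊗[k] C) := by
    refine eq_top_iff.mpr fun z hz => ?_
    clear hz
    obtain ⟨w, rfl⟩ : ∃ w, e' w = z := ⟨e'.symm z, e'.apply_symm_apply z⟩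
    induction w using MonoidAlgebra.induction_linear with
    | zero => simp
    | add a b ha hb => rw [map_add]; exact add_mem ha hb
    | single g c =>
      rw [show MonoidAlgebra.single g c = c • MonoidAlgebra.single g (1 : K) from by simp, map_smul]
      exact Submodule.smul_mem _ c (Submodule.subset_span
        ((MonoidAlgebra.isGroupLikeElem_single_one (R := K) (A := K) g).map e'))
  have h0 := primitive_eq_zero_of_diag hdiag ((1 : K) ⊗ₜ[k] f) (by
    rw [comul_baseChange_eq, LinearMap.baseChange_tmul, hf, TensorProduct.tmul_add, map_add]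
    rfl)
  exact Algebra.TensorProduct.includeRight_injective (R := k) (A := K) (B := C)
    (algebraMap k K).injective (h0.trans (map_zero _).symm)

variable [Coalgebra.IsCocomm k A]

variable (k A) in
/-- The inclusion of the component of the unit. -/
def unitIncl : letI := HopfPts.subHopfAlgebra (isHopfSub_unitComp (k := k) (A := A))
    unitComp k A →ₐc[k] A :=
  letI := HopfPts.subHopfAlgebra (isHopfSub_unitComp (k := k) (A := A))
  BialgHom.ofAlgHom (unitComp k A).val rfl
    (AlgHom.ext fun b => HopfPts.map_subComul (isHopfSub_unitComp (k := k) (A := A)) b)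

variable (k A) in
/-- The ideal of the largest subgroup of multiplicative type. -/
def multIdeal : Ideal A :=
  letI := HopfPts.subHopfAlgebra (isHopfSub_unitComp (k := k) (A := A))
  Ideal.map (unitIncl k A : unitComp k A →+* A) (RingHom.ker (Bialgebra.counitAlgHom k (unitComp k A)))

theorem isHopfIdeal_multIdeal : (multIdeal k A).IsHopfIdeal k := by
  letI := HopfPts.subHopfAlgebra (isHopfSub_unitComp (k := k) (A := A))
  exact isHopfIdeal_map (unitIncl k A)

theorem sub_counit_mem {n : ℕ} {b : A} (hb : b ∈ fil k A A n) :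
    b - algebraMap k A (Coalgebra.counit (R := k) b) ∈ multIdeal k A := by
  letI := HopfPts.subHopfAlgebra (isHopfSub_unitComp (k := k) (A := A))
  let x : unitComp k A := ⟨b, mem_unitComp hb⟩
  refine Ideal.mem_map_of_mem (unitIncl k A : unitComp k A →+* A)
    (x := x - algebraMap k _ (Coalgebra.counit (R := k) b)) ?_
  rw [RingHom.mem_ker, map_sub, AlgHom.commutes]
  exact sub_self _

theorem multIdeal_le (I : Ideal A) [I.IsHopfIdeal k] (hI : SGA3b.IsMultTypeConst k (A ⧸ I)) :
    multIdeal k A ≤ I := by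
  haveI : Coalgebra.IsCocomm k (A ⧸ I) := ⟨LinearMap.ext fun q => by
    obtain ⟨a, rfl⟩ := Ideal.Quotient.mk_surjective q
    have h1 : Coalgebra.comul (R := k) (Ideal.Quotient.mk I a) = TensorProduct.map
        (Ideal.Quotient.mkₐ k I).toLinearMap (Ideal.Quotient.mkₐ k I).toLinearMap (Coalgebra.comul (R := k) a) := rfl
    rw [LinearMap.comp_apply, LinearEquiv.coe_coe, h1, ← TensorProduct.map_comm, Coalgebra.comm_comul]⟩
  refine Ideal.map_le_iff_le_comap.mpr fun b hb => ?_
  obtain ⟨n, hn⟩ := b.2
  have h1 := fil_eq_one_of_no_primitive (primitive_eq_zero_of_multType hI)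
    (map_fil (Bialgebra.Quotient.mkBialgHom (R := k) I) hn)
  obtain ⟨c, hc⟩ := exists_const_of_mem_fil_one h1
  have hε : Coalgebra.counit (R := k) ((b : A)) = 0 := hb
  have h2 := congrArg (Coalgebra.counit (R := k)) hc
  rw [CoalgHomClass.counit_comp_apply, hε, map_smul, Bialgebra.counit_one, smul_eq_mul, mul_one] at h2
  rw [← h2, zero_smul] at hc
  have h3 : Ideal.Quotient.mk I (b : A) = 0 := hc
  exact Ideal.mem_comap.mpr (Ideal.Quotient.eq_zero_iff_mem.mp h3)

theorem isMultType_quot :
    haveI := isHopfIdeal_multIdeal (k := k) (A := A)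
    SGA3b.IsMultTypeConst k (A ⧸ multIdeal k A) := by
  haveI := isHopfIdeal_multIdeal (k := k) (A := A)
  let K := AlgebraicClosure k
  refine ⟨K, inferInstance, inferInstance, inferInstance, MultType.isDiag_of_adjoin_groupLike ?_⟩
  let q : K ⊗[k] A →ₐc[K] K ⊗[k] (A ⧸ multIdeal k A) :=
    Bialgebra.TensorProduct.map (BialgHom.id K K) (Bialgebra.Quotient.mkBialgHom (R := k) (multIdeal k A))
  have hq : ∀ (c : K) (a : A), q (c ⊗ₜ[k] a) = c ⊗ₜ[k] Ideal.Quotient.mk (multIdeal k A) a := fun c a => by
    simp [q]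
  refine eq_top_iff.mpr fun z hz => ?_
  clear hz
  obtain ⟨y, rfl⟩ : ∃ y, q y = z := by
    induction z with
    | zero => exact ⟨0, map_zero q⟩
    | add p r hp hr =>
      obtain ⟨p', rfl⟩ := hp
      obtain ⟨r', rfl⟩ := hr
      exact ⟨p' + r', map_add q p' r'⟩
    | tmul c a =>
      obtain ⟨a, rfl⟩ := Ideal.Quotient.mk_surjective a
      exact ⟨c ⊗ₜ[k] a, hq c a⟩
  suffices H : Submodule.span K {x : K ⊗[k] A | ∃ g b : K ⊗[k] A, ∃ n, IsGroupLikeElem K g ∧
      b ∈ fil K (K ⊗[k] A) (K ⊗[k] A) n ∧ x = g * b} ≤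
      (Subalgebra.toSubmodule (Algebra.adjoin K {x : K ⊗[k] (A ⧸ multIdeal k A) | IsGroupLikeElem K x})).comap
        q.toLinearMap from H (exists_split y)
  refine Submodule.span_le.mpr ?_
  rintro _ ⟨g, b, n, hg, hb, rfl⟩
  show q (g * b) ∈ Algebra.adjoin K _
  rw [map_mul]
  refine mul_mem (Algebra.subset_adjoin (hg.map q)) ?_
  have h1 := fil_baseChange_le K n hb
  suffices H : Submodule.span K ((fun a => (1 : K) ⊗ₜ[k] a) '' (fil k A A n : Set A)) ≤
      (Subalgebra.toSubmodule (Algebra.adjoin K {x : K ⊗[k] (A ⧸ multIdeal k A) | IsGroupLikeElem K x})).comap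
        q.toLinearMap from H h1
  refine Submodule.span_le.mpr ?_
  rintro _ ⟨a, ha, rfl⟩
  show q ((1 : K) ⊗ₜ[k] a) ∈ Algebra.adjoin K _
  rw [hq, Ideal.Quotient.eq.mpr (sub_counit_mem ha)]
  have e : (1 : K) ⊗ₜ[k] Ideal.Quotient.mk (multIdeal k A) (algebraMap k A (Coalgebra.counit (R := k) a)) =
      algebraMap k (K ⊗[k] (A ⧸ multIdeal k A)) (Coalgebra.counit (R := k) a) := by
    rw [Algebra.TensorProduct.algebraMap_apply']
    rfl
  rw [e, IsScalarTower.algebraMap_apply k K (K ⊗[k] (A ⧸ multIdeal k A))]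
  exact Subalgebra.algebraMap_mem _ _

end Groth.Agent.CommUnip
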