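import Groth.Agent.Comodule.MultType
import Groth.Agent.Comodule.Antipode
import Groth.Agent.HopfPts.Sub

/-! The component of the unit in a cocommutative Hopf algebra. -/

set_option autoImplicit false
set_option backward.isDefEq.respectTransparency false
universe u v

open TensorProduct WithConv

noncomputable section

namespace Groth.Agent.CommUnip

open Groth.Agent.Comodule

section Map

variable {k : Type u} [Field k] {A : Type v} [CommRing A] [Bialgebra k A]

theorem smul_regular (f : WithConv (A →ₗ[k] k)) (x : A) :
    f • x = rcon f.ofConv (Coalgebra.comul (R := k) x) := rfl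

theorem smul_map {B : Type v} [CommRing B] [Bialgebra k B] (π : A →ₐc[k] B) (f : WithConv (B →ₗ[k] k)) (x : A) :
    f • π x = π (toConv (f.ofConv ∘ₗ (π : A →ₗ[k] B)) • x) := by
  rw [smul_regular, smul_regular, ← CoalgHomClass.map_comp_comul_apply π x]
  induction Coalgebra.comul (R := k) x with
  | zero => simp
  | add p q hp hq => simp only [map_add, hp, hq]
  | tmul p q => simp [rcon]

theorem map_fil {B : Type v} [CommRing B] [Bialgebra k B] (π : A →ₐc[k] B) :
    ∀ {n : ℕ} {x : A}, x ∈ fil k A A n → π x ∈ fil k B B n
  | 0, x, hx => by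
    rw [fil_zero, Submodule.mem_bot] at hx ⊢
    rw [hx, map_zero]
  | n + 1, x, hx => mem_fil_succ.mpr fun f hf => by
    rw [smul_map]
    exact map_fil π (mem_fil_succ.mp hx _ (by simpa using hf))

theorem one_mem_fil (n : ℕ) : (1 : A) ∈ fil k A A (n + 1) :=
  fil_mono (Nat.le_add_left 1 n) (by
    rw [fil_one, fixedPts_regular]
    exact Submodule.mem_span_singleton_self _)

theorem exists_const_of_mem_fil_one {x : A} (hx : x ∈ fil k A A 1) : ∃ c : k, x = c • (1 : A) := by
  rw [fil_one, fixedPts_regular, Submodule.mem_span_singleton] at hx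
  obtain ⟨c, hc⟩ := hx
  exact ⟨c, hc.symm⟩

theorem mul_mem_fil : ∀ (n i j : ℕ), i + j = n → ∀ {x y : A}, x ∈ fil k A A (i + 1) → y ∈ fil k A A (j + 1) →
    x * y ∈ fil k A A (n + 1) := by
  intro n
  induction n using Nat.strong_induction_on with
  | _ n ih =>
    intro i j hij x y hx hy
    refine mem_fil_succ.mpr fun f hf => ?_
    rw [smul_regular, Bialgebra.comul_mul]
    have key : ∀ z ∈ ⨆ a ∈ Finset.range (i + 1), LinearMap.range
        (TensorProduct.mapIncl (fil k A A (a + 1)) (fil k A A (i + 1 - a))),
        ∀ w ∈ ⨆ c ∈ Finset.range (j + 1), LinearMap.range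
          (TensorProduct.mapIncl (fil k A A (c + 1)) (fil k A A (j + 1 - c))),
        rcon f.ofConv (z * w) ∈ fil k A A n := by
      intro z hz w hw
      have hL : (⨆ a ∈ Finset.range (i + 1), LinearMap.range
          (TensorProduct.mapIncl (fil k A A (a + 1)) (fil k A A (i + 1 - a)))) ≤
          (fil k A A n).comap ((rcon f.ofConv) ∘ₗ (LinearMap.mulRight k w)) := by
        refine iSup₂_le fun a ha => ?_
        rintro _ ⟨u, rfl⟩
        rw [Submodule.mem_comap, LinearMap.comp_apply, LinearMap.mulRight_apply]
        have hR : (⨆ c ∈ Finset.range (j + 1), LinearMap.range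
            (TensorProduct.mapIncl (fil k A A (c + 1)) (fil k A A (j + 1 - c)))) ≤
            (fil k A A n).comap ((rcon f.ofConv) ∘ₗ
              (LinearMap.mulLeft k (TensorProduct.mapIncl (fil k A A (a + 1)) (fil k A A (i + 1 - a)) u))) := by
          refine iSup₂_le fun c hc => ?_
          rintro _ ⟨v, rfl⟩
          rw [Submodule.mem_comap, LinearMap.comp_apply, LinearMap.mulLeft_apply]
          induction u with
          | zero => simp
          | add p q hp hq => simp only [map_add, add_mul]; exact add_mem hp hq
          | tmul p q =>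
            induction v with
            | zero => simp
            | add r s hr hs => simp only [map_add, mul_add]; exact add_mem hr hs
            | tmul r s =>
              have ha' := Finset.mem_range.mp ha
              have hc' := Finset.mem_range.mp hc
              simp only [TensorProduct.mapIncl, TensorProduct.map_tmul, Submodule.subtype_apply,
                Algebra.TensorProduct.tmul_mul_tmul, rcon_tmul]
              by_cases hlt : a + c < n
              · exact Submodule.smul_mem _ _ (fil_mono (show a + c + 1 ≤ n by omega)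
                  (ih (a + c) hlt a c rfl p.2 r.2))
              · obtain ⟨s₁, hs₁⟩ := exists_const_of_mem_fil_one (x := (q : A))
                  ((congrArg (fil k A A) (show i + 1 - a = 1 by omega)).le q.2)
                obtain ⟨s₂, hs₂⟩ := exists_const_of_mem_fil_one (x := (s : A))
                  ((congrArg (fil k A A) (show j + 1 - c = 1 by omega)).le s.2)
                rw [hs₁, hs₂, smul_mul_smul_comm, one_mul, map_smul, hf, smul_zero, zero_smul]
                exact zero_mem _
        exact hR hw
      exact hL hz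
    exact key _ (comul_mem_fil hx) _ (comul_mem_fil hy)

end Map

section Hopf

variable {k : Type u} [Field k] {A : Type v} [CommRing A] [HopfAlgebra k A] [Coalgebra.IsCocomm k A]

theorem antipode_mem_fil : ∀ {n : ℕ} {x : A}, x ∈ fil k A A n → HopfAlgebra.antipode k x ∈ fil k A A n
  | 0, x, hx => by
    rw [fil_zero, Submodule.mem_bot] at hx ⊢
    rw [hx, map_zero]
  | n + 1, x, hx => mem_fil_succ.mpr fun f hf => by
    have h : f • HopfAlgebra.antipode k x =
        HopfAlgebra.antipode k (toConv (f.ofConv ∘ₗ HopfAlgebra.antipode k) • x) := by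
      rw [smul_regular, smul_regular, comul_antipode]
      have e : TensorProduct.comm k A A (Coalgebra.comul (R := k) x) = Coalgebra.comul (R := k) x :=
        Coalgebra.comm_comul k x
      conv_rhs => rw [← e]
      induction Coalgebra.comul (R := k) x with
      | zero => simp
      | add p q hp hq => simp only [map_add, hp, hq]
      | tmul p q => simp [rcon]
    rw [h]
    refine antipode_mem_fil (mem_fil_succ.mp hx _ ?_)
    show f.ofConv (HopfAlgebra.antipode k (1 : A)) = 0
    rw [HopfAlgebra.antipode_one]
    exact hf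

variable (k A) in
/-- The component of the unit. -/
def unitComp : Subalgebra k A where
  carrier := {a | ∃ n, a ∈ fil k A A (n + 1)}
  mul_mem' := by
    rintro x y ⟨i, hi⟩ ⟨j, hj⟩
    exact ⟨i + j, mul_mem_fil _ i j rfl hi hj⟩
  one_mem' := ⟨0, one_mem_fil 0⟩
  add_mem' := by
    rintro x y ⟨i, hi⟩ ⟨j, hj⟩
    exact ⟨max i j, add_mem (fil_mono (by omega) hi) (fil_mono (by omega) hj)⟩
  zero_mem' := ⟨0, zero_mem _⟩
  algebraMap_mem' := fun c => ⟨0, by
    rw [Algebra.algebraMap_eq_smul_one]
    exact Submodule.smul_mem _ c (one_mem_fil 0)⟩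

theorem mem_unitComp {n : ℕ} {a : A} (h : a ∈ fil k A A n) : a ∈ unitComp k A := ⟨n, fil_le_succ n h⟩

theorem isHopfSub_unitComp : HopfFF.IsHopfSub (k := k) (A := A) (unitComp k A) := by
  refine ⟨?_, fun b hb => ?_⟩
  · rintro b ⟨n, hn⟩
    suffices H : (⨆ i ∈ Finset.range (n + 1), LinearMap.range
        (TensorProduct.mapIncl (fil k A A (i + 1)) (fil k A A (n + 1 - i)))) ≤
        LinearMap.range (TensorProduct.map (unitComp k A).val.toLinearMap (unitComp k A).val.toLinearMap) from
      H (comul_mem_fil hn)
    refine iSup₂_le fun i _ => ?_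
    rintro _ ⟨z, rfl⟩
    induction z with
    | zero => simp
    | add p q hp hq => rw [map_add]; exact add_mem hp hq
    | tmul p q => exact ⟨⟨p, mem_unitComp p.2⟩ ⊗ₜ[k] ⟨q, mem_unitComp q.2⟩, rfl⟩
  · obtain ⟨n, hn⟩ := hb
    exact ⟨n, antipode_mem_fil hn⟩

theorem isUnipotent_unitComp :
    letI := HopfPts.subHopfAlgebra (isHopfSub_unitComp (k := k) (A := A))
    HopfRep.IsUnipotent k (unitComp k A) := by
  letI := HopfPts.subHopfAlgebra (isHopfSub_unitComp (k := k) (A := A))
  refine isUnipotent_iff_fil.mpr ?_
  rintro ⟨a, n, hn⟩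
  refine ⟨n + 1, ?_⟩
  have key : ∀ (m : ℕ) (b : unitComp k A), (b : A) ∈ fil k A A m → b ∈ fil k (unitComp k A) (unitComp k A) m := by
    intro m
    induction m with
    | zero =>
      intro b hb
      rw [fil_zero, Submodule.mem_bot] at hb ⊢
      exact Subtype.ext hb
    | succ m ih =>
      intro b hb
      refine mem_fil_succ.mpr fun f hf => ih _ ?_
      obtain ⟨p, hp⟩ := (unitComp k A).val.toLinearMap.exists_leftInverse_of_injective
        (LinearMap.ker_eq_bot.mpr Subtype.val_injective)
      have h1 := mem_fil_succ.mp hb (toConv (f.ofConv ∘ₗ p)) (by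
        show f.ofConv (p (1 : A)) = 0
        have : p (1 : A) = 1 := LinearMap.congr_fun hp (1 : unitComp k A)
        rw [this]
        exact hf)
      have h2 : ((f • b : unitComp k A) : A) = toConv (f.ofConv ∘ₗ p) • (b : A) := by
        rw [smul_regular, smul_regular,
          ← HopfPts.map_subComul (isHopfSub_unitComp (k := k) (A := A)) b]
        show ((rcon f.ofConv (HopfPts.subComul (isHopfSub_unitComp (k := k) (A := A)) b) : unitComp k A) : A) = _
        induction HopfPts.subComul (isHopfSub_unitComp (k := k) (A := A)) b with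
        | zero => simp
        | add p q hp hq => simp only [map_add, Subalgebra.coe_add, hp, hq]
        | tmul x y =>
          have : p (y : A) = y := LinearMap.congr_fun hp y
          simp [rcon, this]
      rwa [h2]
  exact key _ _ hn

theorem fil_eq_one_of_no_primitive
    (hP : ∀ f : A, Coalgebra.comul (R := k) f = f ⊗ₜ[k] (1 : A) + (1 : A) ⊗ₜ[k] f → f = 0) :
    ∀ {n : ℕ} {x : A}, x ∈ fil k A A n → x ∈ fil k A A 1
  | 0, x, hx => fil_mono (Nat.zero_le 1) hx
  | n + 1, x, hx => by
    have h2 : x ∈ fil k A A 2 :=
      mem_fil_succ.mpr fun f hf => fil_eq_one_of_no_primitive hP (mem_fil_succ.mp hx f hf)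
    obtain ⟨a, b, hab⟩ : ∃ a b : A, Coalgebra.comul (R := k) x = (1 : A) ⊗ₜ[k] a + b ⊗ₜ[k] (1 : A) := by
      suffices H : ∀ z ∈ ⨆ i ∈ Finset.range 2, LinearMap.range
          (TensorProduct.mapIncl (fil k A A (i + 1)) (fil k A A (2 - i))),
          z ∈ LinearMap.range (TensorProduct.mk k A A 1) ⊔ LinearMap.range ((TensorProduct.mk k A A).flip 1) by
        obtain ⟨_, ⟨a, rfl⟩, _, ⟨b, rfl⟩, h⟩ := Submodule.mem_sup.mp (H _ (comul_mem_fil h2))
        exact ⟨a, b, h.symm⟩
      refine SetLike.le_def.mp (iSup₂_le fun i hi => ?_)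
      rintro _ ⟨z, rfl⟩
      induction z with
      | zero => simp
      | add p q hp hq => rw [map_add]; exact add_mem hp hq
      | tmul p q =>
        simp only [TensorProduct.mapIncl, TensorProduct.map_tmul, Submodule.subtype_apply]
        rcases (show i = 0 ∨ i = 1 by have := Finset.mem_range.mp hi; omega) with rfl | rfl
        · obtain ⟨c, hc⟩ := exists_const_of_mem_fil_one (x := (p : A)) p.2
          rw [hc, TensorProduct.smul_tmul]
          exact Submodule.mem_sup_left ⟨_, rfl⟩
        · obtain ⟨c, hc⟩ := exists_const_of_mem_fil_one (x := (q : A)) q.2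
          rw [hc, ← TensorProduct.smul_tmul]
          exact Submodule.mem_sup_right ⟨_, rfl⟩
    have hl : x = a + Coalgebra.counit (R := k) b • (1 : A) := by
      have h := Coalgebra.rTensor_counit_comul (R := k) x
      rw [hab] at h
      simpa [TensorProduct.tmul_smul] using (congrArg (TensorProduct.lid k A) h).symm
    have hr : x = Coalgebra.counit (R := k) a • (1 : A) + b := by
      have h := Coalgebra.lTensor_counit_comul (R := k) x
      rw [hab] at h
      simpa using (congrArg (TensorProduct.rid k A) h).symm
    have hex : Coalgebra.counit (R := k) x = Coalgebra.counit (R := k) a + Coalgebra.counit (R := k) b := by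
      rw [hl, map_add, map_smul, Bialgebra.counit_one, smul_eq_mul, mul_one]
    have hprim := hP (x - Coalgebra.counit (R := k) x • 1) (by
      rw [map_sub, map_smul, Bialgebra.comul_one, Algebra.TensorProduct.one_def, hab, hex]
      generalize Coalgebra.counit (R := k) a = ea at hr ⊢
      generalize Coalgebra.counit (R := k) b = eb at hl ⊢
      have ha : a = x - eb • 1 := eq_sub_of_add_eq hl.symm
      have hb : b = x - ea • 1 := eq_sub_of_add_eq' hr.symm
      subst ha hb
      simp only [TensorProduct.tmul_sub, TensorProduct.sub_tmul, TensorProduct.tmul_smul, ← TensorProduct.smul_tmul',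
        add_smul, TensorProduct.tmul_add, TensorProduct.add_tmul]
      abel)
    rw [sub_eq_zero] at hprim
    rw [hprim]
    exact Submodule.smul_mem _ _ (one_mem_fil 0)

/-- An ideal generated by the augmentation ideal of a bialgebra is a Hopf ideal. -/
theorem isHopfIdeal_map {B : Type v} [CommRing B] [HopfAlgebra k B] (ψ : B →ₐc[k] A) :
    (Ideal.map (ψ : B →+* A) (RingHom.ker (Bialgebra.counitAlgHom k B))).IsHopfIdeal k := by
  set J := Ideal.map (ψ : B →+* A) (RingHom.ker (Bialgebra.counitAlgHom k B)) with hJ
  let π := Ideal.Quotient.mkₐ k J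
  have hπ : ∀ b : B, π (ψ b) = algebraMap k (A ⧸ J) (Coalgebra.counit (R := k) b) := fun b => by
    rw [← sub_eq_zero, ← AlgHom.commutes π, ← map_sub, ← AlgHomClass.commutes ψ, ← map_sub]
    exact Ideal.Quotient.eq_zero_iff_mem.mpr (Ideal.mem_map_of_mem _ (by simp [RingHom.mem_ker]))
  let Φ : A →ₐ[k] (A ⧸ J) ⊗[k] (A ⧸ J) := (Algebra.TensorProduct.map π π).comp (Bialgebra.comulAlgHom k A)
  have hΦ : J ≤ RingHom.ker Φ := by
    refine Ideal.map_le_iff_le_comap.mpr fun b hb => RingHom.mem_ker.mpr ?_
    show Algebra.TensorProduct.map π π (Coalgebra.comul (R := k) (ψ b)) = 0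
    rw [← CoalgHomClass.map_comp_comul_apply ψ b]
    have e : ∀ z : B ⊗[k] B, Algebra.TensorProduct.map π π (TensorProduct.map (ψ : B →ₗ[k] A) (ψ : B →ₗ[k] A) z) =
        algebraMap k _ (LinearMap.mul' k k (TensorProduct.map (Coalgebra.counit (R := k)) (Coalgebra.counit (R := k)) z)) := by
      intro z
      induction z with
      | zero => simp
      | add p q hp hq => simp only [map_add, hp, hq]
      | tmul p q =>
        rw [TensorProduct.map_tmul, TensorProduct.map_tmul, Algebra.TensorProduct.map_tmul, LinearMap.mul'_apply]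
        show π (ψ p) ⊗ₜ[k] π (ψ q) = _
        rw [hπ, hπ, map_mul, Algebra.TensorProduct.algebraMap_apply,
          Algebra.TensorProduct.algebraMap_apply', Algebra.TensorProduct.tmul_mul_tmul, one_mul, mul_one]
    refine (e _).trans ?_
    have h2 : LinearMap.mul' k k (TensorProduct.map (Coalgebra.counit (R := k)) (Coalgebra.counit (R := k))
        (Coalgebra.comul (R := k) b)) = Coalgebra.counit (R := k) b := by
      have h := congrArg ((LinearMap.mul' k k) ∘ₗ (Coalgebra.counit (R := k) (A := B)).lTensor k)
        (Coalgebra.rTensor_counit_comul (R := k) b)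
      rw [LinearMap.comp_apply, LinearMap.comp_apply, ← LinearMap.comp_apply (LinearMap.lTensor k _),
        LinearMap.lTensor_comp_rTensor] at h
      simpa using h
    rw [h2, show Coalgebra.counit (R := k) b = 0 from hb, map_zero]
  have hS : J ≤ J.comap (HopfAlgebra.antipodeAlgHom k A) := by
    refine Ideal.map_le_iff_le_comap.mpr fun b hb => ?_
    show HopfAlgebra.antipodeAlgHom k A (ψ b) ∈ J
    rw [HopfAlgebra.antipodeAlgHom_apply, ← HopfFF.map_antipode' ψ b]
    exact Ideal.mem_map_of_mem _ (by
      rw [RingHom.mem_ker] at hb ⊢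
      simpa using hb)
  have hco : (J.restrictScalars k).IsCoideal := by
    refine ⟨fun a ha => ?_, fun a ha => ?_⟩
    · have h : J ≤ RingHom.ker (Bialgebra.counitAlgHom k A) :=
        Ideal.map_le_iff_le_comap.mpr fun b hb => by
          rw [Ideal.mem_comap, RingHom.mem_ker]
          exact (CoalgHomClass.counit_comp_apply ψ b).trans hb
      exact h ha
    · let σ : (A ⧸ J) →ₗ[k] A ⧸ J.restrictScalars k := (Submodule.Quotient.restrictScalarsEquiv k J).symm.toLinearMap
      have e : ∀ z : A ⊗[k] A, TensorProduct.map (J.restrictScalars k).mkQ (J.restrictScalars k).mkQ z =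
          TensorProduct.map σ σ (Algebra.TensorProduct.map π π z) := by
        intro z
        induction z with
        | zero => simp
        | add p q hp hq => simp only [map_add, hp, hq]
        | tmul p q => simp [σ, π, ← Ideal.Quotient.mk_eq_mk]
      rw [e]
      have h0 := hΦ ha
      rw [RingHom.mem_ker, AlgHom.comp_apply, Bialgebra.comulAlgHom_apply] at h0
      rw [h0, map_zero]
  exact { hco with antipode_mem := fun a ha => hS ha }

end Hopf

end Groth.Agent.CommUnip
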