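import Groth.Agent.CommUnipLib.Sub
import Groth.Agent.HopfFF.Coinv

/-! The diagonalizable part of a commutative affine group over a perfect field. -/

set_option autoImplicit false
set_option backward.isDefEq.respectTransparency false
universe u

open TensorProduct WithConv Polynomial

noncomputable section

namespace Groth.Agent.CommUnip

open Groth.Agent.Comodule

variable {k : Type u} [Field k] {A : Type u} [CommRing A] [HopfAlgebra k A]

theorem aeval_baseChange {M : Type u} [AddCommGroup M] [Module k M] (K : Type u) [Field K] [Algebra k K]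
    (T : Module.End k M) (p : k[X]) :
    aeval (T.baseChange K : Module.End K (K ⊗[k] M)) (p.map (algebraMap k K)) = (aeval T p).baseChange K := by
  induction p using Polynomial.induction_on' with
  | add p q hp hq => rw [Polynomial.map_add, map_add, map_add, LinearMap.baseChange_add, hp, hq]
  | monomial n c =>
    rw [Polynomial.map_monomial, aeval_monomial, aeval_monomial, ← Algebra.smul_def, ← Algebra.smul_def,
      algebraMap_smul, LinearMap.baseChange_smul]
    congr 1
    exact (map_pow (Module.End.baseChangeHom k K M) T n).symm

variable (k) in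
/-- The extended functional. -/
def extK (K : Type u) [Field K] [Algebra k K] (f : WithConv (A →ₗ[k] k)) : WithConv (K ⊗[k] A →ₗ[K] K) :=
  toConv ((TensorProduct.AlgebraTensorModule.rid k K K).toLinearMap ∘ₗ f.ofConv.baseChange K)

theorem op_extK (K : Type u) [Field K] [Algebra k K] (f : WithConv (A →ₗ[k] k)) (z : K ⊗[k] A) :
    LinearMap.baseChange K (dact (V := A) f.ofConv) z = extK k K f • z := (baseChange_smul K f z).symm

variable (k A) in
/-- The span of the group-like elements over the algebraic closure. -/
def glSpan : Subalgebra (AlgebraicClosure k) (AlgebraicClosure k ⊗[k] A) :=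
  Algebra.adjoin (AlgebraicClosure k) {x | IsGroupLikeElem (AlgebraicClosure k) x}

theorem glSpan_eq_span : Subalgebra.toSubmodule (glSpan k A) =
    Submodule.span (AlgebraicClosure k) {x : AlgebraicClosure k ⊗[k] A | IsGroupLikeElem (AlgebraicClosure k) x} := by
  rw [glSpan, Algebra.adjoin_eq_span]
  congr 1
  refine Set.Subset.antisymm (fun x hx => ?_) Submonoid.subset_closure
  induction hx using Submonoid.closure_induction with
  | mem y hy => exact hy
  | one => exact IsGroupLikeElem.one
  | mul a b _ _ ha hb => exact ha.mul hb

variable (k A) in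
/-- The elements which become combinations of group-like elements. -/
def diagPart : Subalgebra k A :=
  ((glSpan k A).restrictScalars k).comap Algebra.TensorProduct.includeRight

theorem mem_diagPart {a : A} : a ∈ diagPart k A ↔ (1 : AlgebraicClosure k) ⊗ₜ[k] a ∈ glSpan k A := Iff.rfl

variable [Coalgebra.IsCocomm k A]

set_option maxHeartbeats 1600000 in
theorem one_tmul_mem (a : A)
    (h : ∀ f : WithConv (A →ₗ[k] k), ∃ p : k[X], p.Separable ∧ aeval (dact (V := A) f.ofConv : Module.End k A) p a = 0) :
    a ∈ diagPart k A := by
  let K := AlgebraicClosure k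
  let N : Submodule k A := (Submodule.span (WithConv (A →ₗ[k] k)) {a}).restrictScalars k
  have hN : HopfRep.IsSubcomod (k := k) (A := A) N := isSubcomod_restrictScalars _
  haveI : Module.Finite k N := finite_span_singleton a
  have hst : ∀ g : WithConv (A →ₗ[k] k), ∀ x ∈ N, g • x ∈ N := fun g x hx => isSubcomod_iff.mp hN g x hx
  let T : WithConv (A →ₗ[k] k) → Module.End k N := fun f =>
    LinearMap.restrict (dact (V := A) f.ofConv) (fun x hx => hst f x hx)
  have hT0 : ∀ f (p : k[X]), aeval (dact (V := A) f.ofConv : Module.End k A) p a = 0 → aeval (T f) p = 0 := by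
    intro f p hp
    refine LinearMap.ext fun x => Subtype.ext ?_
    have e : ∀ (q : k[X]) (x : N), ((aeval (T f) q x : N) : A) =
        aeval (dact (V := A) f.ofConv : Module.End k A) q (x : A) := by
      intro q
      induction q using Polynomial.induction_on with
      | C c => intro x; simp [Module.algebraMap_end_apply]
      | add p q hp hq => intro x; simp [hp, hq]
      | monomial n c ih =>
        intro x
        rw [pow_succ, ← mul_assoc]
        simp only [map_mul, aeval_X, Module.End.mul_apply] at ih ⊢
        rw [ih (T f x)]
        rfl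
    obtain ⟨g, hg⟩ := Submodule.mem_span_singleton.mp x.2
    rw [e, ← hg]
    have hc : ∀ (q : k[X]), aeval (dact (V := A) f.ofConv : Module.End k A) q (g • a) =
        g • aeval (dact (V := A) f.ofConv : Module.End k A) q a := by
      intro q
      induction q using Polynomial.induction_on with
      | C c => rw [aeval_C, Module.algebraMap_end_apply, Module.algebraMap_end_apply, smul_comm]
      | add p q hp hq => rw [map_add, LinearMap.add_apply, LinearMap.add_apply, hp, hq, smul_add]
      | monomial n c ih =>
        rw [pow_succ', ← mul_assoc, mul_comm (C c) X, mul_assoc, map_mul, aeval_X, Module.End.mul_apply,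
          Module.End.mul_apply, ih]
        exact op_comm f g _
    rw [hc, hp, smul_zero]
    rfl
  let T' : WithConv (A →ₗ[k] k) → Module.End K (K ⊗[k] N) := fun f => (T f).baseChange K
  have hss : ∀ f, (T' f).IsSemisimple := by
    intro f
    obtain ⟨p, hp, hp0⟩ := h f
    refine Module.End.isSemisimple_of_squarefree_aeval_eq_zero (p := p.map (algebraMap k K))
      (hp.map).squarefree ?_
    rw [aeval_baseChange, hT0 f p hp0, LinearMap.baseChange_zero]
  have hcomm : Pairwise fun f g => Commute (T' f) (T' g) := fun f g _ => by
    show T' f * T' g = T' g * T' f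
    show (T f).baseChange K ∘ₗ (T g).baseChange K = (T g).baseChange K ∘ₗ (T f).baseChange K
    rw [← LinearMap.baseChange_comp, ← LinearMap.baseChange_comp]
    congr 1
    exact LinearMap.ext fun x => Subtype.ext (op_comm f g (x : A))
  have htop := Module.End.iSup_iInf_maxGenEigenspace_eq_top_of_iSup_maxGenEigenspace_eq_top_of_commute T' hcomm
    fun f => Module.End.iSup_maxGenEigenspace_eq_top _
  let j : K ⊗[k] N →ₗ[K] K ⊗[k] A := N.subtype.baseChange K
  suffices H : (⊤ : Submodule K (K ⊗[k] N)) ≤ (Subalgebra.toSubmodule (glSpan k A)).comap j from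
    H (x := (1 : K) ⊗ₜ[k] (⟨a, Submodule.subset_span rfl⟩ : N)) Submodule.mem_top
  rw [← htop]
  refine iSup_le fun χ y hy => ?_
  rw [Submodule.mem_comap]
  set w := j y with hw
  by_cases hw0 : w = 0
  · rw [hw0]
    exact zero_mem _
  have heig : ∀ f, extK k K f • w = χ f • w := by
    intro f
    have h1 := (Submodule.mem_iInf _).mp hy f
    rw [(hss f).isFinitelySemisimple.maxGenEigenspace_eq_eigenspace] at h1
    rw [← op_extK, hw, ← map_smul j, ← Module.End.mem_eigenspace_iff.mp h1]
    show (dact (V := A) f.ofConv).baseChange K (N.subtype.baseChange K y) =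
      N.subtype.baseChange K ((T f).baseChange K y)
    rw [← LinearMap.comp_apply, ← LinearMap.baseChange_comp, ← LinearMap.comp_apply (N.subtype.baseChange K),
      ← LinearMap.baseChange_comp]
    rfl
  obtain ⟨φ, hφ⟩ := exists_dual_eq_one (k := K) hw0
  set h' : K ⊗[k] A := coefMap (C := K ⊗[k] A) φ w with hh'
  let b := Module.Basis.ofVectorSpace k A
  have hcoord : ∀ i, (Algebra.TensorProduct.basis K b).coord i = (extK k K (toConv (b.coord i))).ofConv := by
    intro i
    refine TensorProduct.AlgebraTensorModule.ext fun c x => ?_
    simp [extK, Algebra.smul_def, mul_comm]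
  have hco : Coalgebra.comul (R := K) w = w ⊗ₜ[K] h' := by
    rw [← sub_eq_zero]
    refine eq_zero_of_rcon_basis (Algebra.TensorProduct.basis K b) fun i => ?_
    rw [map_sub, rcon_tmul, hcoord, sub_eq_zero]
    show extK k K (toConv (b.coord i)) • w = _
    rw [heig]
    congr 1
    rw [hh', coefMap_apply]
    refine Eq.symm ((eval_lcon' _ φ _).trans ?_)
    show φ (extK k K (toConv (b.coord i)) • w) = _
    rw [heig, map_smul, hφ, smul_eq_mul, mul_one]
  have hwe : w = Coalgebra.counit (R := K) w • h' := by
    have h1 := lcon_counit_comul (k := K) w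
    rw [hco, lcon_tmul] at h1
    exact h1.symm
  rw [glSpan_eq_span, hwe]
  exact Submodule.smul_mem _ _ (Submodule.subset_span (groupLike_of_eigen hw0 hco))

/-- The coordinates of a group-like element lie in the diagonalizable part. -/
theorem coord_mem_diagPart [PerfectField k] {g : AlgebraicClosure k ⊗[k] A}
    (hg : IsGroupLikeElem (AlgebraicClosure k) g) {ι : Type*} [DecidableEq ι] (e : Module.Basis ι k (AlgebraicClosure k)) (i : ι) :
    TensorProduct.equivFinsuppOfBasisLeft (N := A) e g i ∈ diagPart k A := by
  refine one_tmul_mem _ fun f => ?_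
  let K := AlgebraicClosure k
  set t : K := (extK k K f).ofConv g
  have hint : IsIntegral k t := (Algebra.IsAlgebraic.isAlgebraic t).isIntegral
  refine ⟨minpoly k t, PerfectField.separable_of_irreducible (minpoly.irreducible hint), ?_⟩
  let c := TensorProduct.equivFinsuppOfBasisLeft (N := A) e
  have hc : ∀ (T : A →ₗ[k] A) (z : K ⊗[k] A), c (LinearMap.baseChange K T z) i = T (c z i) := by
    intro T z
    induction z with
    | zero => simp
    | add p q hp hq => simp only [map_add, Finsupp.add_apply, hp, hq]
    | tmul s a => simp [c]
  rw [← hc, ← aeval_baseChange]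
  have hev : Module.End.HasEigenvector ((dact (V := A) f.ofConv).baseChange K) t g :=
    ⟨Module.End.mem_eigenspace_iff.mpr ((op_extK K f g).trans (smul_groupLike hg _)), hg.ne_zero⟩
  rw [Module.End.aeval_apply_of_hasEigenvector hev, Polynomial.eval_map, ← Polynomial.aeval_def, minpoly.aeval,
    zero_smul, map_zero]
  rfl

end Groth.Agent.CommUnip
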