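import Groth.Agent.CommUnipLib.Perfect

/-! A commutative affine group over a perfect field is the product of a group of multiplicative type and
a unipotent group. -/

set_option autoImplicit false
set_option backward.isDefEq.respectTransparency false
universe u

open TensorProduct WithConv Polynomial

noncomputable section

namespace Groth.Agent.CommUnip

open Groth.Agent.Comodule

variable {k : Type u} [Field k] {A : Type u} [CommRing A] [HopfAlgebra k A] [Coalgebra.IsCocomm k A]

local notation "𝕂" => AlgebraicClosure k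

theorem extK_one_tmul (f : WithConv (A →ₗ[k] k)) (a : A) :
    extK k 𝕂 f • ((1 : 𝕂) ⊗ₜ[k] a) = (1 : 𝕂) ⊗ₜ[k] (f • a) := by
  rw [← op_extK, LinearMap.baseChange_tmul]
  rfl

theorem smul_mem_diagPart (f : WithConv (A →ₗ[k] k)) {a : A} (ha : a ∈ diagPart k A) : f • a ∈ diagPart k A := by
  rw [mem_diagPart, ← Subalgebra.mem_toSubmodule, glSpan_eq_span] at *
  rw [← extK_one_tmul]
  generalize (1 : 𝕂) ⊗ₜ[k] a = z at ha ⊢
  induction ha using Submodule.span_induction with
  | zero => rw [smul_zero]; exact zero_mem _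
  | add x y _ _ hx hy => rw [smul_add]; exact add_mem hx hy
  | smul c x _ hx => rw [smul_comm]; exact Submodule.smul_mem _ c hx
  | mem x hx =>
    rw [smul_groupLike hx]
    exact Submodule.smul_mem _ _ (Submodule.subset_span hx)

theorem isHopfSub_diagPart : HopfFF.IsHopfSub (k := k) (A := A) (diagPart k A) := by
  refine ⟨fun b hb => ?_, fun b hb => ?_⟩
  · have hl : ∀ (φ : A →ₗ[k] k) (z : A ⊗[k] A), lcon φ z = rcon φ (TensorProduct.comm k A A z) := by
      intro φ z
      induction z with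
      | zero => simp
      | add p q hp hq => simp only [map_add, hp, hq]
      | tmul p q => simp [lcon, rcon]
    show Coalgebra.comul (R := k) b ∈ LinearMap.range (TensorProduct.map (Subalgebra.toSubmodule (diagPart k A)).subtype
      (Subalgebra.toSubmodule (diagPart k A)).subtype)
    refine mem_range_map_iff.mpr ⟨mem_range_rTensor_iff.mpr fun f => smul_mem_diagPart (toConv f) hb,
      mem_range_lTensor_iff.mpr fun φ => ?_⟩
    rw [hl, Coalgebra.comm_comul]
    exact smul_mem_diagPart (toConv φ) hb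
  · rw [mem_diagPart, ← Subalgebra.mem_toSubmodule, glSpan_eq_span] at hb ⊢
    rw [show (1 : 𝕂) ⊗ₜ[k] HopfAlgebra.antipode k b = HopfAlgebra.antipode 𝕂 ((1 : 𝕂) ⊗ₜ[k] b) from by
      simp [TensorProduct.antipode_def]]
    refine (Submodule.map_span_le (HopfAlgebra.antipode 𝕂 (A := 𝕂 ⊗[k] A)) _ _).mpr ?_ (Submodule.mem_map_of_mem hb)
    exact fun x hx => Submodule.subset_span (IsGroupLikeElem.antipode hx)

/-- Group-like elements are combinations of elements of the diagonalizable part. -/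
theorem groupLike_mem_span [PerfectField k] {g : 𝕂 ⊗[k] A} (hg : IsGroupLikeElem 𝕂 g) :
    g ∈ Submodule.span 𝕂 ((fun a => (1 : 𝕂) ⊗ₜ[k] a) '' (diagPart k A : Set A)) := by
  classical
  let e := Module.Basis.ofVectorSpace k 𝕂
  let c := TensorProduct.equivFinsuppOfBasisLeft (N := A) e
  rw [show g = (c g).sum fun i m => e i ⊗ₜ[k] m from by
    conv_lhs => rw [← c.symm_apply_apply g]
    rw [TensorProduct.equivFinsuppOfBasisLeft_symm_apply]]
  refine Submodule.sum_mem _ fun i _ => ?_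
  show e i ⊗ₜ[k] (c g i) ∈ _
  rw [show e i ⊗ₜ[k] (c g i) = e i • ((1 : 𝕂) ⊗ₜ[k] (c g i)) from by simp [TensorProduct.smul_tmul']]
  exact Submodule.smul_mem _ _ (Submodule.subset_span ⟨_, coord_mem_diagPart hg e i, rfl⟩)

variable (k A) in
/-- The span of the products of the two parts. -/
def prodSpan : Submodule k A :=
  LinearMap.range (LinearMap.mul' k A ∘ₗ
    TensorProduct.map (diagPart k A).val.toLinearMap (unitComp k A).val.toLinearMap)

theorem mul_mem_prodSpan {d u : A} (hd : d ∈ diagPart k A) (hu : u ∈ unitComp k A) : d * u ∈ prodSpan k A :=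
  ⟨⟨d, hd⟩ ⊗ₜ[k] ⟨u, hu⟩, by simp⟩

theorem prodSpan_eq_top [PerfectField k] : prodSpan k A = ⊤ := by
  refine eq_top_iff.mpr fun a _ => ?_
  have h := exists_split (k := AlgebraicClosure k) ((1 : 𝕂) ⊗ₜ[k] a)
  have hle : Submodule.span 𝕂 {x : 𝕂 ⊗[k] A | ∃ g b : 𝕂 ⊗[k] A, ∃ n, IsGroupLikeElem 𝕂 g ∧
      b ∈ fil 𝕂 (𝕂 ⊗[k] A) (𝕂 ⊗[k] A) n ∧ x = g * b} ≤ LinearMap.ker ((prodSpan k A).mkQ.baseChange 𝕂) := by
    refine Submodule.span_le.mpr ?_
    rintro _ ⟨g, b, n, hg, hb, rfl⟩
    have h1 : g * b ∈ Submodule.span 𝕂 ((fun a => (1 : 𝕂) ⊗ₜ[k] a) '' (diagPart k A : Set A)) *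
        Submodule.span 𝕂 ((fun a => (1 : 𝕂) ⊗ₜ[k] a) '' (fil k A A n : Set A)) :=
      Submodule.mul_mem_mul (groupLike_mem_span hg) (fil_baseChange_le 𝕂 n hb)
    rw [Submodule.span_mul_span] at h1
    refine (Submodule.span_le.mpr ?_ : _ ≤ LinearMap.ker ((prodSpan k A).mkQ.baseChange 𝕂)) h1
    rintro _ ⟨_, ⟨d, hd, rfl⟩, _, ⟨u, hu, rfl⟩, rfl⟩
    simp [Algebra.TensorProduct.tmul_mul_tmul, (Submodule.Quotient.mk_eq_zero _).mpr
      (mul_mem_prodSpan hd (mem_unitComp hu))]
  have h2 : (1 : 𝕂) ⊗ₜ[k] (prodSpan k A).mkQ a = 0 := hle h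
  rw [Module.FaithfullyFlat.one_tmul_eq_zero_iff] at h2
  exact (Submodule.Quotient.mk_eq_zero _).mp h2

variable (k A) in
/-- The inclusion of the diagonalizable part. -/
def diagIncl : letI := HopfPts.subHopfAlgebra (isHopfSub_diagPart (k := k) (A := A))
    diagPart k A →ₐc[k] A :=
  letI := HopfPts.subHopfAlgebra (isHopfSub_diagPart (k := k) (A := A))
  BialgHom.ofAlgHom (diagPart k A).val rfl
    (AlgHom.ext fun b => HopfPts.map_subComul (isHopfSub_diagPart (k := k) (A := A)) b)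

variable (k A) in
/-- The ideal of the unipotent part. -/
def unipIdeal : Ideal A :=
  letI := HopfPts.subHopfAlgebra (isHopfSub_diagPart (k := k) (A := A))
  Ideal.map (diagIncl k A : diagPart k A →+* A) (RingHom.ker (Bialgebra.counitAlgHom k (diagPart k A)))

theorem isHopfIdeal_unipIdeal : (unipIdeal k A).IsHopfIdeal k := by
  letI := HopfPts.subHopfAlgebra (isHopfSub_diagPart (k := k) (A := A))
  exact isHopfIdeal_map (diagIncl k A)

theorem sub_counit_mem_unipIdeal {d : A} (hd : d ∈ diagPart k A) :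
    d - algebraMap k A (Coalgebra.counit (R := k) d) ∈ unipIdeal k A := by
  letI := HopfPts.subHopfAlgebra (isHopfSub_diagPart (k := k) (A := A))
  refine Ideal.mem_map_of_mem (diagIncl k A : diagPart k A →+* A)
    (x := (⟨d, hd⟩ : diagPart k A) - algebraMap k _ (Coalgebra.counit (R := k) d)) ?_
  rw [RingHom.mem_ker, map_sub, AlgHom.commutes]
  exact sub_self _

theorem groupLike_mk_eq_one [PerfectField k] {g : 𝕂 ⊗[k] A} (hg : IsGroupLikeElem 𝕂 g) :
    (Ideal.Quotient.mkₐ k (unipIdeal k A)).toLinearMap.baseChange 𝕂 g = 1 := by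
  set T := (Ideal.Quotient.mkₐ k (unipIdeal k A)).toLinearMap.baseChange 𝕂
  have key : Submodule.span 𝕂 ((fun a => (1 : 𝕂) ⊗ₜ[k] a) '' (diagPart k A : Set A)) ≤
      LinearMap.ker (T - (Coalgebra.counit (R := 𝕂) (A := 𝕂 ⊗[k] A)).smulRight
        (1 : 𝕂 ⊗[k] (A ⧸ unipIdeal k A))) := by
    refine Submodule.span_le.mpr ?_
    rintro _ ⟨d, hd, rfl⟩
    rw [SetLike.mem_coe, LinearMap.mem_ker, LinearMap.sub_apply, sub_eq_zero, LinearMap.smulRight_apply]
    show (1 : 𝕂) ⊗ₜ[k] Ideal.Quotient.mk (unipIdeal k A) d = _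
    rw [Ideal.Quotient.eq.mpr (sub_counit_mem_unipIdeal hd), TensorProduct.counit_tmul, CommSemiring.counit_apply,
      smul_one_smul, Algebra.TensorProduct.one_def, ← TensorProduct.tmul_smul, ← Algebra.algebraMap_eq_smul_one]
    rfl
  have h := key (groupLike_mem_span hg)
  rw [LinearMap.mem_ker, LinearMap.sub_apply, sub_eq_zero, LinearMap.smulRight_apply, hg.counit_eq_one, one_smul] at h
  exact h

theorem isUnipotent_quot_unipIdeal [PerfectField k] :
    haveI := isHopfIdeal_unipIdeal (k := k) (A := A)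
    HopfRep.IsUnipotent k (A ⧸ unipIdeal k A) := by
  haveI := isHopfIdeal_unipIdeal (k := k) (A := A)
  refine (unipotent_baseChange_iff (K := 𝕂)).mpr (isUnipotent_iff_fil.mpr fun z => ?_)
  let H := 𝕂 ⊗[k] (A ⧸ unipIdeal k A)
  let q : 𝕂 ⊗[k] A →ₐc[𝕂] H :=
    Bialgebra.TensorProduct.map (BialgHom.id 𝕂 𝕂) (Bialgebra.Quotient.mkBialgHom (R := k) (unipIdeal k A))
  have hq : ∀ w, q w = (Ideal.Quotient.mkₐ k (unipIdeal k A)).toLinearMap.baseChange 𝕂 w := by
    intro w
    induction w with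
    | zero => simp
    | add p r hp hr => simp only [map_add, hp, hr]
    | tmul c a => simp [q] <;> rfl
  obtain ⟨y, rfl⟩ : ∃ y, q y = z := by
    obtain ⟨y, hy⟩ := LinearMap.lTensor_surjective 𝕂 (g := (Ideal.Quotient.mkₐ k (unipIdeal k A)).toLinearMap)
      (Ideal.Quotient.mkₐ_surjective k (unipIdeal k A)) z
    exact ⟨y, (hq y).trans hy⟩
  have hle : Submodule.span 𝕂 {x : 𝕂 ⊗[k] A | ∃ g b : 𝕂 ⊗[k] A, ∃ n, IsGroupLikeElem 𝕂 g ∧
      b ∈ fil 𝕂 (𝕂 ⊗[k] A) (𝕂 ⊗[k] A) n ∧ x = g * b} ≤ (⨆ n, fil 𝕂 H H n).comap q.toLinearMap := by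
    refine Submodule.span_le.mpr ?_
    rintro _ ⟨g, b, n, hg, hb, rfl⟩
    show q (g * b) ∈ ⨆ n, fil 𝕂 H H n
    rw [map_mul, hq g, groupLike_mk_eq_one hg, one_mul]
    exact Submodule.mem_iSup_of_mem n (map_fil q hb)
  exact (Submodule.mem_iSup_of_directed _ fil_mono.directed_le).mp (hle (exists_split y))

theorem eq_const_of_mem_inf {x : A} {n : ℕ} (hx : x ∈ fil k A A n) (hd : x ∈ diagPart k A) :
    ∃ c : k, x = c • (1 : A) := by
  let hB := isHopfSub_diagPart (k := k) (A := A)
  letI := HopfPts.subHopfAlgebra hB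
  haveI := isCocomm_sub hB
  have hP : ∀ f : diagPart k A, Coalgebra.comul (R := k) f = f ⊗ₜ[k] (1 : diagPart k A) + 1 ⊗ₜ[k] f → f = 0 := by
    intro f hf
    have hf' : Coalgebra.comul (R := k) (f : A) = (f : A) ⊗ₜ[k] (1 : A) + (1 : A) ⊗ₜ[k] (f : A) := by
      rw [← comul_sub hB, hf, map_add]
      rfl
    have hfK : (1 : 𝕂) ⊗ₜ[k] (f : A) = 0 := by
      refine primitive_of_mem_span_groupLike (k := AlgebraicClosure k) ?_ ?_
      · rw [← glSpan_eq_span]
        exact f.2
      · rw [comul_baseChange_eq, LinearMap.baseChange_tmul, hf', TensorProduct.tmul_add, map_add]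
        rfl
    exact Subtype.ext ((Module.FaithfullyFlat.one_tmul_eq_zero_iff k _ (A := AlgebraicClosure k) (f : A)).mp hfK)
  obtain ⟨c, hc⟩ := exists_const_of_mem_fil_one (fil_eq_one_of_no_primitive hP (mem_fil_sub hB n ⟨x, hd⟩ hx))
  exact ⟨c, by simpa using congrArg Subtype.val hc⟩

/-- Elements of the component of the unit killed by the quotient of the unipotent part vanish. -/
theorem eq_zero_of_mem_unipIdeal : ∀ {n : ℕ} {u : A}, u ∈ fil k A A n → u ∈ unipIdeal k A → u = 0
  | 0, u, hu, _ => (Submodule.mem_bot k).mp hu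
  | n + 1, u, hu, hmem => by
    haveI := isHopfIdeal_unipIdeal (k := k) (A := A)
    let π : A →ₐc[k] A ⧸ unipIdeal k A := Bialgebra.Quotient.mkBialgHom (R := k) (unipIdeal k A)
    have hπu : π u = 0 := Ideal.Quotient.eq_zero_iff_mem.mpr hmem
    have h1 : ∀ φ : WithConv (A ⧸ unipIdeal k A →ₗ[k] k), φ.ofConv 1 = 0 →
        toConv (φ.ofConv ∘ₗ (π : A →ₗ[k] A ⧸ unipIdeal k A)) • u = 0 := fun φ hφ =>
      eq_zero_of_mem_unipIdeal (mem_fil_succ.mp hu _ (by
          show φ.ofConv (π 1) = 0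
          rw [map_one, hφ]))
        (Ideal.Quotient.eq_zero_iff_mem.mp (by
          show π _ = 0
          rw [← smul_map, hπu, smul_zero]))
    have hco : (Ideal.Quotient.mkₐ k (unipIdeal k A)).toLinearMap.lTensor A (Coalgebra.comul (R := k) u) =
        u ⊗ₜ[k] (1 : A ⧸ unipIdeal k A) := by
      refine ext_rcon fun f => ?_
      rw [rcon_lTensor, rcon_tmul]
      have h2 := h1 (toConv f - f 1 • (1 : WithConv (A ⧸ unipIdeal k A →ₗ[k] k)))
        (by simp [LinearMap.convOne_def, Bialgebra.counit_one])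
      have e : toConv ((toConv f - f 1 • (1 : WithConv (A ⧸ unipIdeal k A →ₗ[k] k))).ofConv ∘ₗ
          (π : A →ₗ[k] A ⧸ unipIdeal k A)) =
          toConv (f ∘ₗ (π : A →ₗ[k] A ⧸ unipIdeal k A)) - f 1 • (1 : WithConv (A →ₗ[k] k)) := by
        refine WithConv.ext (LinearMap.ext fun x => ?_)
        simp [LinearMap.convOne_def]
      rw [e, sub_smul, smul_assoc, one_smul, sub_eq_zero] at h2
      exact h2
    have hJR : unipIdeal k A ≤ Ideal.span {b : A | b ∈ diagPart k A ∧ Coalgebra.counit (R := k) b = 0} := by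
      letI := HopfPts.subHopfAlgebra (isHopfSub_diagPart (k := k) (A := A))
      exact Ideal.map_le_iff_le_comap.mpr fun b hb => Ideal.subset_span ⟨b.2, hb⟩
    obtain ⟨c, hc⟩ := eq_const_of_mem_inf hu (HopfFF.mem_of_right_coinv isHopfSub_diagPart hJR hco)
    have h3 : Coalgebra.counit (R := k) u = 0 := by
      rw [← CoalgHomClass.counit_comp_apply π, hπu, map_zero]
    rw [hc, map_smul, Bialgebra.counit_one, smul_eq_mul, mul_one] at h3
    rw [hc, h3, zero_smul]

/-- The group-like elements with trivial image in the quotient of multiplicative type are trivial. -/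
theorem groupLike_eq_one_of_mk [PerfectField k] {x : 𝕂 ⊗[k] A} (hx : IsGroupLikeElem 𝕂 x)
    (hq : (Ideal.Quotient.mkₐ k (multIdeal k A)).toLinearMap.baseChange 𝕂 x = 1) : x = 1 := by
  classical
  haveI := isHopfIdeal_multIdeal (k := k) (A := A)
  let e := Module.Basis.ofVectorSpace k 𝕂
  let c := TensorProduct.equivFinsuppOfBasisLeft (N := A) e
  have hc : ∀ (T : A →ₗ[k] A) (z : 𝕂 ⊗[k] A) i, c (LinearMap.baseChange 𝕂 T z) i = T (c z i) := by
    intro T z i
    induction z with
    | zero => simp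
    | add p q hp hq => simp only [map_add, Finsupp.add_apply, hp, hq]
    | tmul s a => simp [c]
  have hconst : ∀ i, ∃ t : k, c x i = t • (1 : A) := by
    intro i
    have hco : (Ideal.Quotient.mkₐ k (multIdeal k A)).toLinearMap.lTensor A (Coalgebra.comul (R := k) (c x i)) =
        (c x i) ⊗ₜ[k] (1 : A ⧸ multIdeal k A) := by
      refine ext_rcon fun φ => ?_
      rw [rcon_lTensor, rcon_tmul]
      show toConv (φ ∘ₗ (Ideal.Quotient.mkₐ k (multIdeal k A)).toLinearMap) • (c x i) = φ 1 • c x i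
      set f : WithConv (A →ₗ[k] k) := toConv (φ ∘ₗ (Ideal.Quotient.mkₐ k (multIdeal k A)).toLinearMap)
      have h1 : (extK k 𝕂 f).ofConv x = algebraMap k 𝕂 (φ 1) := by
        have h2 : (extK k 𝕂 f).ofConv x = (TensorProduct.AlgebraTensorModule.rid k 𝕂 𝕂)
            (φ.baseChange 𝕂 ((Ideal.Quotient.mkₐ k (multIdeal k A)).toLinearMap.baseChange 𝕂 x)) := by
          simp only [extK, f, LinearMap.baseChange_comp, LinearMap.comp_apply, LinearEquiv.coe_coe]
        rw [h2, hq, Algebra.TensorProduct.one_def]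
        simp [Algebra.algebraMap_eq_smul_one]
      have h3 := hc (dact (V := A) f.ofConv) x i
      rw [op_extK, smul_groupLike hx, h1, algebraMap_smul, map_smul, Finsupp.smul_apply] at h3
      exact h3.symm
    have hJR : multIdeal k A ≤ Ideal.span {b : A | b ∈ unitComp k A ∧ Coalgebra.counit (R := k) b = 0} := by
      letI := HopfPts.subHopfAlgebra (isHopfSub_unitComp (k := k) (A := A))
      exact Ideal.map_le_iff_le_comap.mpr fun b hb => Ideal.subset_span ⟨b.2, hb⟩
    obtain ⟨n, hn⟩ := HopfFF.mem_of_right_coinv isHopfSub_unitComp hJR hco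
    exact eq_const_of_mem_inf hn (coord_mem_diagPart hx e i)
  choose t ht using hconst
  obtain ⟨s, hs⟩ : ∃ s : 𝕂, x = s • (1 : 𝕂 ⊗[k] A) := by
    refine ⟨(c x).sum fun i _ => t i • e i, ?_⟩
    conv_lhs => rw [← c.symm_apply_apply x, TensorProduct.equivFinsuppOfBasisLeft_symm_apply]
    rw [Finsupp.sum, Finsupp.sum, Finset.sum_smul]
    refine Finset.sum_congr rfl fun i _ => ?_
    rw [ht, TensorProduct.tmul_smul, Algebra.TensorProduct.one_def, TensorProduct.smul_tmul',
      TensorProduct.smul_tmul', smul_eq_mul, mul_one]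
  have h := hx.counit_eq_one
  rw [hs, map_smul, Bialgebra.counit_one, smul_eq_mul, mul_one] at h
  rw [hs, h, one_smul]

/-- Elements of the diagonalizable part killed by the quotient of multiplicative type vanish. -/
theorem eq_zero_of_mem_multIdeal [PerfectField k] {d : A} (hd : d ∈ diagPart k A) (hmem : d ∈ multIdeal k A) :
    d = 0 := by
  haveI := isHopfIdeal_multIdeal (k := k) (A := A)
  let q : 𝕂 ⊗[k] A →ₐc[𝕂] 𝕂 ⊗[k] (A ⧸ multIdeal k A) :=
    Bialgebra.TensorProduct.map (BialgHom.id 𝕂 𝕂) (Bialgebra.Quotient.mkBialgHom (R := k) (multIdeal k A))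
  have hq : ∀ w, q w = (Ideal.Quotient.mkₐ k (multIdeal k A)).toLinearMap.baseChange 𝕂 w := by
    intro w
    induction w with
    | zero => simp
    | add p r hp hr => simp only [map_add, hp, hr]
    | tmul c a => simp [q] <;> rfl
  have hinj : ∀ g h, IsGroupLikeElem 𝕂 g → IsGroupLikeElem 𝕂 h → q g = q h → g = h := by
    intro g h hg hh hgh
    have h1 : HopfAlgebra.antipode 𝕂 h * g = 1 := groupLike_eq_one_of_mk (hh.antipode.mul hg) (by
      rw [← hq, map_mul, hgh, ← map_mul, hh.antipode_mul_cancel, map_one])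
    calc g = h * (HopfAlgebra.antipode 𝕂 h * g) := by rw [← mul_assoc, hh.mul_antipode_cancel, one_mul]
      _ = h := by rw [h1, mul_one]
  have hmem' : (1 : 𝕂) ⊗ₜ[k] d ∈ Submodule.span 𝕂 {x : 𝕂 ⊗[k] A | IsGroupLikeElem 𝕂 x} := by
    rw [← glSpan_eq_span]
    exact hd
  obtain ⟨c, hc⟩ := Finsupp.mem_span_iff_linearCombination _ _ _ |>.mp hmem'
  have hli : LinearIndependent 𝕂 (fun g : {x : 𝕂 ⊗[k] A | IsGroupLikeElem 𝕂 x} => q g) := by
    let F : {x : 𝕂 ⊗[k] A | IsGroupLikeElem 𝕂 x} → {x : 𝕂 ⊗[k] (A ⧸ multIdeal k A) | IsGroupLikeElem 𝕂 x} :=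
      fun g => ⟨q g, IsGroupLikeElem.map q g.2⟩
    have hF : Function.Injective F := fun g h he => Subtype.ext (hinj _ _ g.2 h.2 (congrArg Subtype.val he))
    exact (linearIndepOn_isGroupLikeElem (R := 𝕂) (A := 𝕂 ⊗[k] (A ⧸ multIdeal k A))).comp F hF
  have h0 : q ((1 : 𝕂) ⊗ₜ[k] d) = 0 := by
    rw [hq, LinearMap.baseChange_tmul]
    show (1 : 𝕂) ⊗ₜ[k] Ideal.Quotient.mk (multIdeal k A) d = 0
    rw [Ideal.Quotient.eq_zero_iff_mem.mpr hmem, TensorProduct.tmul_zero]
  rw [← hc] at h0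
  replace h0 := (Finsupp.apply_linearCombination 𝕂 q.toLinearMap Subtype.val c).symm.trans h0
  have hc0 : c = 0 := linearIndependent_iff.mp hli c h0
  rw [hc0, map_zero] at hc
  exact (Module.FaithfullyFlat.one_tmul_eq_zero_iff k _ (A := AlgebraicClosure k) d).mp hc.symm

variable (k A) in
/-- The comorphism of the multiplication of two subgroups. -/
def mulMap (J I : Ideal A) : A →ₐ[k] (A ⧸ J) ⊗[k] (A ⧸ I) :=
  (Algebra.TensorProduct.map (Ideal.Quotient.mkₐ k J) (Ideal.Quotient.mkₐ k I)).comp (Bialgebra.comulAlgHom k A)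

theorem mulMap_diag {d : A} (hd : d ∈ diagPart k A) :
    mulMap k A (multIdeal k A) (unipIdeal k A) d = Ideal.Quotient.mk (multIdeal k A) d ⊗ₜ[k] 1 := by
  obtain ⟨z, hz⟩ := (isHopfSub_diagPart (k := k) (A := A)).1 d hd
  have e := congrArg (TensorProduct.rid k A) (Coalgebra.lTensor_counit_comul (R := k) d)
  rw [TensorProduct.rid_tmul, one_smul] at e
  show Algebra.TensorProduct.map _ _ (Coalgebra.comul (R := k) d) = _
  conv_rhs => rw [← e, show Coalgebra.comul (R := k) d = _ from hz.symm]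
  rw [show Coalgebra.comul (R := k) d = _ from hz.symm]
  clear hz e
  induction z with
  | zero => simp
  | add p q hp hq => simp only [map_add, TensorProduct.add_tmul, hp, hq]
  | tmul p q =>
    have hqm : Ideal.Quotient.mk (unipIdeal k A) (q : A) = algebraMap k _ (Coalgebra.counit (R := k) (q : A)) := by
      rw [Ideal.Quotient.eq.mpr (sub_counit_mem_unipIdeal q.2)]
      rfl
    simp only [TensorProduct.map_tmul, AlgHom.toLinearMap_apply, Subalgebra.coe_val, Algebra.TensorProduct.map_tmul,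
      Ideal.Quotient.mkₐ_eq_mk, hqm, LinearMap.lTensor_tmul, TensorProduct.rid_tmul]
    rw [Algebra.algebraMap_eq_smul_one, ← TensorProduct.smul_tmul]
    rfl

theorem mulMap_unit {u : A} (hu : u ∈ unitComp k A) :
    mulMap k A (multIdeal k A) (unipIdeal k A) u = 1 ⊗ₜ[k] Ideal.Quotient.mk (unipIdeal k A) u := by
  obtain ⟨z, hz⟩ := (isHopfSub_unitComp (k := k) (A := A)).1 u hu
  have e := congrArg (TensorProduct.lid k A) (Coalgebra.rTensor_counit_comul (R := k) u)
  rw [TensorProduct.lid_tmul, one_smul] at e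
  show Algebra.TensorProduct.map _ _ (Coalgebra.comul (R := k) u) = _
  conv_rhs => rw [← e, show Coalgebra.comul (R := k) u = _ from hz.symm]
  rw [show Coalgebra.comul (R := k) u = _ from hz.symm]
  clear hz e
  induction z with
  | zero => simp
  | add p q hp hq => simp only [map_add, TensorProduct.tmul_add, hp, hq]
  | tmul p q =>
    obtain ⟨n, hn⟩ := p.2
    have hpm : Ideal.Quotient.mk (multIdeal k A) (p : A) = algebraMap k _ (Coalgebra.counit (R := k) (p : A)) := by
      rw [Ideal.Quotient.eq.mpr (sub_counit_mem hn)]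
      rfl
    simp only [TensorProduct.map_tmul, AlgHom.toLinearMap_apply, Subalgebra.coe_val, Algebra.TensorProduct.map_tmul,
      Ideal.Quotient.mkₐ_eq_mk, hpm, LinearMap.rTensor_tmul, TensorProduct.lid_tmul]
    rw [Algebra.algebraMap_eq_smul_one, TensorProduct.smul_tmul]
    rfl

theorem bijective_mulMap [PerfectField k] :
    Function.Bijective (mulMap k A (multIdeal k A) (unipIdeal k A)) := by
  let θ : diagPart k A ⊗[k] unitComp k A →ₗ[k] A :=
    LinearMap.mul' k A ∘ₗ TensorProduct.map (diagPart k A).val.toLinearMap (unitComp k A).val.toLinearMap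
  have hθ : Function.Surjective θ := fun a => by
    have h : a ∈ prodSpan k A := by rw [prodSpan_eq_top]; trivial
    exact h
  let α : diagPart k A →ₗ[k] A ⧸ multIdeal k A :=
    (Ideal.Quotient.mkₐ k (multIdeal k A)).toLinearMap ∘ₗ (diagPart k A).val.toLinearMap
  let β : unitComp k A →ₗ[k] A ⧸ unipIdeal k A :=
    (Ideal.Quotient.mkₐ k (unipIdeal k A)).toLinearMap ∘ₗ (unitComp k A).val.toLinearMap
  have hcomp : ∀ z, mulMap k A (multIdeal k A) (unipIdeal k A) (θ z) = TensorProduct.map α β z := by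
    intro z
    induction z with
    | zero => simp
    | add p q hp hq => simp only [map_add, hp, hq]
    | tmul d u =>
      show mulMap k A _ _ ((d : A) * (u : A)) = _
      rw [map_mul, mulMap_diag d.2, mulMap_unit u.2, Algebra.TensorProduct.tmul_mul_tmul, mul_one, one_mul]
      rfl
  have hα : Function.Injective α := (injective_iff_map_eq_zero α).mpr fun d hd =>
    Subtype.ext (eq_zero_of_mem_multIdeal d.2 (Ideal.Quotient.eq_zero_iff_mem.mp hd))
  have hβ : Function.Injective β := (injective_iff_map_eq_zero β).mpr fun u hu => by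
    obtain ⟨n, hn⟩ := u.2
    exact Subtype.ext (eq_zero_of_mem_unipIdeal hn (Ideal.Quotient.eq_zero_iff_mem.mp hu))
  constructor
  · refine (injective_iff_map_eq_zero _).mpr fun x hx => ?_
    obtain ⟨z, rfl⟩ := hθ x
    rw [hcomp] at hx
    have hinj : Function.Injective (TensorProduct.map α β) := by
      rw [← LinearMap.lTensor_comp_rTensor, LinearMap.coe_comp]
      exact (Module.Flat.lTensor_preserves_injective_linearMap β hβ).comp
        (Module.Flat.rTensor_preserves_injective_linearMap α hα)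
    rw [hinj (hx.trans (map_zero _).symm), map_zero]
  · have hαs : ∀ q, ∃ d, α d = q := by
      intro q
      obtain ⟨a, rfl⟩ := Ideal.Quotient.mk_surjective q
      obtain ⟨z, rfl⟩ := hθ a
      induction z with
      | zero => exact ⟨0, by simp⟩
      | add p q hp hq =>
        obtain ⟨d₁, h₁⟩ := hp
        obtain ⟨d₂, h₂⟩ := hq
        exact ⟨d₁ + d₂, by rw [map_add, h₁, h₂, map_add, map_add]⟩
      | tmul d u =>
        obtain ⟨n, hn⟩ := u.2
        refine ⟨Coalgebra.counit (R := k) (u : A) • d, ?_⟩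
        show Ideal.Quotient.mk _ (Coalgebra.counit (R := k) (u : A) • (d : A)) =
          Ideal.Quotient.mk _ ((d : A) * (u : A))
        rw [Algebra.smul_def, map_mul, map_mul, Ideal.Quotient.eq.mpr (sub_counit_mem hn), mul_comm]
    have hβs : ∀ q, ∃ u, β u = q := by
      intro q
      obtain ⟨a, rfl⟩ := Ideal.Quotient.mk_surjective q
      obtain ⟨z, rfl⟩ := hθ a
      induction z with
      | zero => exact ⟨0, by simp⟩
      | add p q hp hq =>
        obtain ⟨d₁, h₁⟩ := hp
        obtain ⟨d₂, h₂⟩ := hq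
        exact ⟨d₁ + d₂, by rw [map_add, h₁, h₂, map_add, map_add]⟩
      | tmul d u =>
        refine ⟨Coalgebra.counit (R := k) (d : A) • u, ?_⟩
        show Ideal.Quotient.mk _ (Coalgebra.counit (R := k) (d : A) • (u : A)) =
          Ideal.Quotient.mk _ ((d : A) * (u : A))
        rw [Algebra.smul_def, map_mul, map_mul, Ideal.Quotient.eq.mpr (sub_counit_mem_unipIdeal d.2)]
    intro y
    induction y with
    | zero => exact ⟨0, map_zero _⟩
    | add p q hp hq =>
      obtain ⟨a, rfl⟩ := hp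
      obtain ⟨b, rfl⟩ := hq
      exact ⟨a + b, map_add _ a b⟩
    | tmul p q =>
      obtain ⟨d, rfl⟩ := hαs p
      obtain ⟨u, rfl⟩ := hβs q
      exact ⟨θ (d ⊗ₜ[k] u), hcomp _⟩

theorem unipIdeal_le [PerfectField k] (I : Ideal A) [I.IsHopfIdeal k] (hI : HopfRep.IsUnipotent k (A ⧸ I)) :
    unipIdeal k A ≤ I := by
  letI := HopfPts.subHopfAlgebra (isHopfSub_diagPart (k := k) (A := A))
  let q : 𝕂 ⊗[k] A →ₐc[𝕂] 𝕂 ⊗[k] (A ⧸ I) :=
    Bialgebra.TensorProduct.map (BialgHom.id 𝕂 𝕂) (Bialgebra.Quotient.mkBialgHom (R := k) I)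
  have hqg : ∀ g, IsGroupLikeElem 𝕂 g → q g = 1 := fun g hg => by
    obtain ⟨n, hn⟩ := isUnipotent_iff_fil.mp ((unipotent_baseChange_iff (K := 𝕂)).mp hI) (q g)
    exact groupLike_eq_one_of_mem_fil (IsGroupLikeElem.map q hg) hn
  refine Ideal.map_le_iff_le_comap.mpr fun d hd => ?_
  have hε : Coalgebra.counit (R := k) (d : A) = 0 := hd
  have key : Submodule.span 𝕂 {x : 𝕂 ⊗[k] A | IsGroupLikeElem 𝕂 x} ≤ LinearMap.ker
      (q.toLinearMap - (Coalgebra.counit (R := 𝕂) (A := 𝕂 ⊗[k] A)).smulRight (1 : 𝕂 ⊗[k] (A ⧸ I))) := by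
    refine Submodule.span_le.mpr fun g hg => ?_
    rw [SetLike.mem_coe, LinearMap.mem_ker, LinearMap.sub_apply, sub_eq_zero, LinearMap.smulRight_apply,
      (show IsGroupLikeElem 𝕂 g from hg).counit_eq_one, one_smul]
    exact hqg g hg
  have h : (1 : 𝕂) ⊗ₜ[k] (d : A) ∈ Submodule.span 𝕂 {x : 𝕂 ⊗[k] A | IsGroupLikeElem 𝕂 x} := by
    rw [← glSpan_eq_span]
    exact d.2
  have h1 := key h
  rw [LinearMap.mem_ker, LinearMap.sub_apply, sub_eq_zero, LinearMap.smulRight_apply, TensorProduct.counit_tmul, hε,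
    zero_smul, zero_smul] at h1
  refine Ideal.mem_comap.mpr (Ideal.Quotient.eq_zero_iff_mem.mp ?_)
  refine (Module.FaithfullyFlat.one_tmul_eq_zero_iff k _ (A := AlgebraicClosure k) _).mp ?_
  exact h1

theorem unique_of_bijective [PerfectField k] (I : Ideal A) [I.IsHopfIdeal k] (hI : HopfRep.IsUnipotent k (A ⧸ I))
    (hbij : Function.Bijective (mulMap k A (multIdeal k A) I)) : I = unipIdeal k A := by
  have hle := unipIdeal_le I hI
  refine le_antisymm (fun a ha => ?_) hle
  let p : (A ⧸ unipIdeal k A) →ₐ[k] (A ⧸ I) :=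
    Ideal.Quotient.liftₐ _ (Ideal.Quotient.mkₐ k I) fun x hx => Ideal.Quotient.eq_zero_iff_mem.mpr (hle hx)
  have e : ∀ z : A ⊗[k] A, Algebra.TensorProduct.map (AlgHom.id k (A ⧸ multIdeal k A)) p
      (Algebra.TensorProduct.map (Ideal.Quotient.mkₐ k (multIdeal k A)) (Ideal.Quotient.mkₐ k (unipIdeal k A)) z) =
      Algebra.TensorProduct.map (Ideal.Quotient.mkₐ k (multIdeal k A)) (Ideal.Quotient.mkₐ k I) z := by
    intro z
    induction z with
    | zero => simp
    | add x y hx hy => simp only [map_add, hx, hy]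
    | tmul x y => simp [p]
  obtain ⟨x, hx⟩ := bijective_mulMap.2 ((1 : A ⧸ multIdeal k A) ⊗ₜ[k] Ideal.Quotient.mk (unipIdeal k A) a)
  have h1 : mulMap k A (multIdeal k A) I x = 0 := by
    show Algebra.TensorProduct.map _ _ (Coalgebra.comul (R := k) x) = 0
    rw [← e]
    show Algebra.TensorProduct.map _ p (mulMap k A _ _ x) = 0
    rw [hx, Algebra.TensorProduct.map_tmul]
    show (1 : A ⧸ multIdeal k A) ⊗ₜ[k] Ideal.Quotient.mk I a = 0
    rw [Ideal.Quotient.eq_zero_iff_mem.mpr ha, TensorProduct.tmul_zero]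
  rw [hbij.1 (h1.trans (map_zero _).symm), map_zero] at hx
  have hne : (1 : A ⧸ multIdeal k A) ≠ 0 := by
    intro h
    haveI := isHopfIdeal_multIdeal (k := k) (A := A)
    have := congrArg (Coalgebra.counit (R := k)) h
    rw [Bialgebra.counit_one, map_zero] at this
    exact one_ne_zero this
  obtain ⟨φ, hφ⟩ := exists_dual_eq_one (k := k) hne
  have h2 := congrArg (lcon φ) hx
  rw [map_zero, lcon_tmul, hφ, one_smul] at h2
  exact Ideal.Quotient.eq_zero_iff_mem.mp h2.symm

end Groth.Agent.CommUnip
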