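import Groth.Agent.CommUnipLib.Fil

/-! Over an algebraically closed field a cocommutative commutative Hopf algebra is spanned by translates
of the component of the unit. -/

set_option autoImplicit false
set_option backward.isDefEq.respectTransparency false
universe u v

open TensorProduct WithConv

noncomputable section

namespace Groth.Agent.CommUnip

open Groth.Agent.Comodule

variable {k : Type u} [Field k] [IsAlgClosed k] {A : Type v} [CommRing A] [HopfAlgebra k A] [Coalgebra.IsCocomm k A]

/-- The action of a functional on the regular comodule. -/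
abbrev op (f : WithConv (A →ₗ[k] k)) : Module.End k A := dact f.ofConv

omit [IsAlgClosed k] in
theorem op_comm (f g : WithConv (A →ₗ[k] k)) (x : A) : f • g • x = g • f • x := by
  rw [← mul_smul, ← mul_smul, mul_comm]

/-- A joint generalised eigenspace. -/
def gen (χ : WithConv (A →ₗ[k] k) → k) : Submodule k A := ⨅ f, (op f).maxGenEigenspace (χ f)

omit [IsAlgClosed k] in
theorem finrank_image_lt (χ : WithConv (A →ₗ[k] k) → k) {U : Submodule k A} [Module.Finite k U] (hU : U ≤ gen χ)
    (f : WithConv (A →ₗ[k] k)) (hstab : ∀ x ∈ U, f • x ∈ U) (hne : U ≠ ⊥) :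
    Module.finrank k (U.map (op f - χ f • 1)) < Module.finrank k U := by
  refine Submodule.finrank_lt_finrank_of_lt (lt_of_le_of_ne ?_ fun he => hne ((Submodule.eq_bot_iff _).mpr ?_))
  · rintro _ ⟨x, hx, rfl⟩
    exact sub_mem (hstab x hx) (Submodule.smul_mem _ _ hx)
  · set T : Module.End k A := op f - χ f • 1 with hT
    let T' : U →ₗ[k] U := T.restrict (fun x hx => he.le (Submodule.mem_map_of_mem hx))
    have hsurj : Function.Surjective T' := fun y => by
      obtain ⟨x, hx, hxy⟩ := he.ge y.2
      exact ⟨⟨x, hx⟩, Subtype.ext hxy⟩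
    have hinj : Function.Injective T' := LinearMap.injective_iff_surjective.mpr hsurj
    intro x hx
    obtain ⟨m, hm⟩ := (Module.End.mem_maxGenEigenspace _ _ _).mp ((Submodule.mem_iInf _).mp (hU hx) f)
    have hpow : ∀ (m : ℕ) (u : U), (T ^ m) (u : A) = 0 → u = 0 := by
      intro m
      induction m with
      | zero => intro u h; exact Subtype.ext (by simpa using h)
      | succ m ih =>
        intro u h
        rw [pow_succ, Module.End.mul_apply] at h
        exact (map_eq_zero_iff T' hinj).mp (ih (T' u) h)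
    exact congrArg Subtype.val (hpow m ⟨x, hx⟩ hm)

omit [IsAlgClosed k] in
theorem stable_image (χ : WithConv (A →ₗ[k] k) → k) {U : Submodule k A} (hstab : ∀ g : WithConv (A →ₗ[k] k), ∀ x ∈ U, g • x ∈ U)
    (f g : WithConv (A →ₗ[k] k)) : ∀ x ∈ U.map (op f - χ f • 1), g • x ∈ U.map (op f - χ f • 1) := by
  rintro _ ⟨x, hx, rfl⟩
  refine ⟨g • x, hstab g x hx, ?_⟩
  show f • g • x - χ f • (g • x) = g • (f • x - χ f • x)
  rw [smul_sub, op_comm, smul_comm g (χ f) x]

omit [IsAlgClosed k] in
theorem exists_groupLike (χ : WithConv (A →ₗ[k] k) → k) : ∀ (n : ℕ) (U : Submodule k A) [Module.Finite k U],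
    U ≤ gen χ → (∀ g : WithConv (A →ₗ[k] k), ∀ x ∈ U, g • x ∈ U) → U ≠ ⊥ → Module.finrank k U ≤ n →
    ∃ g : A, IsGroupLikeElem k g ∧ ∀ f, χ f = f.ofConv g := by
  intro n
  induction n with
  | zero =>
    intro U _ _ _ hne hr
    exact absurd (Submodule.finrank_eq_zero.mp (Nat.le_zero.mp hr)) hne
  | succ n ih =>
    intro U _ hle hstab hne hr
    by_cases hex : ∃ f, U.map (op f - χ f • 1) ≠ ⊥
    · obtain ⟨f, hf⟩ := hex
      refine ih _ ?_ (stable_image χ hstab f) hf ?_
      · refine le_trans ?_ hle
        rintro _ ⟨x, hx, rfl⟩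
        exact sub_mem (hstab f x hx) (Submodule.smul_mem _ _ hx)
      · have := finrank_image_lt χ hle f (hstab f) hne
        omega
    · obtain ⟨w, hw, hw0⟩ := Submodule.exists_mem_ne_zero_of_ne_bot hne
      have heig : ∀ f, f • w = χ f • w := fun f => by
        have h1 : U.map (op f - χ f • 1) = ⊥ := not_not.mp fun h => hex ⟨f, h⟩
        have h2 : (op f - χ f • 1) w ∈ U.map (op f - χ f • 1) := Submodule.mem_map_of_mem hw
        rw [h1, Submodule.mem_bot, LinearMap.sub_apply, sub_eq_zero] at h2
        exact h2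
      obtain ⟨φ, hφ⟩ := exists_dual_eq_one (k := k) hw0
      have hval : ∀ f, f.ofConv (coefMap (C := A) φ w) = χ f := fun f => by
        rw [coefMap_apply]
        refine (eval_lcon' f.ofConv φ _).trans ?_
        show φ (f • w) = χ f
        rw [heig, map_smul, hφ, smul_eq_mul, mul_one]
      have hco : HopfRep.Comod.coact (k := k) (A := A) w = w ⊗ₜ[k] coefMap (C := A) φ w := by
        refine ext_rcon fun f => ?_
        rw [rcon_tmul]
        exact (heig (toConv f)).trans (congrArg (· • w) (hval (toConv f)).symm)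
      exact ⟨_, groupLike_of_eigen hw0 hco, fun f => (hval f).symm⟩

omit [IsAlgClosed k] [Coalgebra.IsCocomm k A] in
theorem smul_groupLike_mul {h : A} (hh : IsGroupLikeElem k h) (f : WithConv (A →ₗ[k] k)) (x : A) :
    f • (h * x) = h * (toConv (f.ofConv ∘ₗ LinearMap.mulLeft k h) • x) := by
  rw [smul_regular, smul_regular, Bialgebra.comul_mul, hh.comul_eq_tmul_self]
  induction Coalgebra.comul (R := k) x with
  | zero => simp
  | add p q hp hq => simp only [mul_add, map_add, hp, hq]
  | tmul p q => simp [rcon, mul_smul_comm]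

omit [IsAlgClosed k] in
theorem translate_mem_fil (χ : WithConv (A →ₗ[k] k) → k) {g : A} (hg : IsGroupLikeElem k g)
    (hχ : ∀ f, χ f = f.ofConv g) : ∀ (n : ℕ) (U : Submodule k A) [Module.Finite k U],
    U ≤ gen χ → (∀ g : WithConv (A →ₗ[k] k), ∀ x ∈ U, g • x ∈ U) → Module.finrank k U ≤ n →
    ∀ u ∈ U, HopfAlgebra.antipode k g * u ∈ fil k A A n := by
  intro n
  induction n with
  | zero =>
    intro U _ _ _ hr u hu
    rw [Submodule.finrank_eq_zero.mp (Nat.le_zero.mp hr), Submodule.mem_bot] at hu
    simp [hu]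
  | succ n ih =>
    intro U _ hle hstab hr u hu
    by_cases hne : U = ⊥
    · rw [hne, Submodule.mem_bot] at hu
      simp [hu]
    refine mem_fil_succ.mpr fun f hf => ?_
    rw [smul_groupLike_mul hg.antipode]
    set f' : WithConv (A →ₗ[k] k) := toConv (f.ofConv ∘ₗ LinearMap.mulLeft k (HopfAlgebra.antipode k g))
    have hf' : χ f' = 0 := by
      rw [hχ]
      show f.ofConv (HopfAlgebra.antipode k g * g) = 0
      rw [hg.antipode_mul_cancel, hf]
    have hmem : f' • u ∈ U.map (op f' - χ f' • 1) := ⟨u, hu, by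
      show f' • u - χ f' • u = f' • u
      rw [hf', zero_smul, sub_zero]⟩
    refine ih (U.map (op f' - χ f' • 1)) ?_ (stable_image χ hstab f') ?_ (f' • u) hmem
    · refine le_trans ?_ hle
      rintro _ ⟨x, hx, rfl⟩
      exact sub_mem (hstab f' x hx) (Submodule.smul_mem _ _ hx)
    · have := finrank_image_lt χ hle f' (hstab f') hne
      omega

/-- The translates of the component of the unit span everything. -/
theorem exists_split (a : A) : a ∈ Submodule.span k
    {x : A | ∃ g b : A, ∃ n, IsGroupLikeElem k g ∧ b ∈ fil k A A n ∧ x = g * b} := by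
  let N : Submodule k A := (Submodule.span (WithConv (A →ₗ[k] k)) {a}).restrictScalars k
  have hN : HopfRep.IsSubcomod (k := k) (A := A) N := isSubcomod_restrictScalars _
  haveI : Module.Finite k N := finite_span_singleton a
  have hst : ∀ g : WithConv (A →ₗ[k] k), ∀ x ∈ N, g • x ∈ N := fun g x hx => isSubcomod_iff.mp hN g x hx
  let T : WithConv (A →ₗ[k] k) → Module.End k N := fun f => (op f).restrict (fun x hx => hst f x hx)
  have hcomm : Pairwise fun f g => Commute (T f) (T g) := fun f g _ =>
    LinearMap.ext fun x => Subtype.ext (op_comm f g (x : A))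
  have htop := Module.End.iSup_iInf_maxGenEigenspace_eq_top_of_iSup_maxGenEigenspace_eq_top_of_commute T hcomm
    fun f => Module.End.iSup_maxGenEigenspace_eq_top _
  suffices H : (⊤ : Submodule k N) ≤ (Submodule.span k
      {x : A | ∃ g b : A, ∃ n, IsGroupLikeElem k g ∧ b ∈ fil k A A n ∧ x = g * b}).comap N.subtype from
    H (Submodule.mem_top (R := k) (x := (⟨a, Submodule.subset_span rfl⟩ : N)))
  rw [← htop]
  refine iSup_le fun χ x hx => ?_
  let U : Submodule k A := (⨅ f, (T f).maxGenEigenspace (χ f)).map N.subtype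
  by_cases hx0 : (x : A) = 0
  · rw [Submodule.mem_comap, Submodule.subtype_apply, hx0]
    exact zero_mem _
  have hU : U ≤ gen χ := by
    rintro _ ⟨y, hy, rfl⟩
    refine (Submodule.mem_iInf _).mpr fun f => ?_
    obtain ⟨m, hm⟩ := (Module.End.mem_maxGenEigenspace _ _ _).mp ((Submodule.mem_iInf _).mp hy f)
    refine (Module.End.mem_maxGenEigenspace _ _ _).mpr ⟨m, ?_⟩
    have e : ∀ (m : ℕ) (z : N), (((T f - χ f • 1) ^ m) z : A) = ((op f - χ f • 1) ^ m) (z : A) := by
      intro m
      induction m with
      | zero => intro z; rfl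
      | succ m ih =>
        intro z
        rw [pow_succ, pow_succ, Module.End.mul_apply, Module.End.mul_apply, ih]
        rfl
    rw [Submodule.subtype_apply, ← e, hm]
    rfl
  have hUst : ∀ g : WithConv (A →ₗ[k] k), ∀ y ∈ U, g • y ∈ U := by
    rintro g _ ⟨y, hy, rfl⟩
    refine ⟨T g y, (Submodule.mem_iInf _).mpr fun f => ?_, rfl⟩
    obtain ⟨m, hm⟩ := (Module.End.mem_maxGenEigenspace _ _ _).mp ((Submodule.mem_iInf _).mp hy f)
    refine (Module.End.mem_maxGenEigenspace _ _ _).mpr ⟨m, ?_⟩
    have hc : Commute (T g) ((T f - χ f • 1) ^ m) := by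
      refine Commute.pow_right ?_ m
      have h1 : T g * T f = T f * T g := LinearMap.ext fun x => Subtype.ext (op_comm g f (x : A))
      show T g * (T f - χ f • 1) = (T f - χ f • 1) * T g
      refine LinearMap.ext fun y => ?_
      show T g (T f y - χ f • y) = T f (T g y) - χ f • T g y
      rw [map_sub, map_smul]
      exact congrArg (· - χ f • T g y) (LinearMap.congr_fun h1 y)
    rw [← Module.End.mul_apply, ← hc.eq, Module.End.mul_apply, hm, map_zero]
  have hxU : (x : A) ∈ U := Submodule.mem_map_of_mem hx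
  have hne : U ≠ ⊥ := fun h => hx0 (by rwa [h, Submodule.mem_bot] at hxU)
  obtain ⟨g, hg, hχ⟩ := exists_groupLike χ _ U hU hUst hne le_rfl
  refine Submodule.subset_span ⟨g, HopfAlgebra.antipode k g * (x : A), _, hg,
    translate_mem_fil χ hg hχ _ U hU hUst le_rfl _ hxU, ?_⟩
  rw [← mul_assoc, hg.mul_antipode_cancel, one_mul]
  rfl

end Groth.Agent.CommUnip
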