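import Groth.Agent.CommUnipLib.Main

/-! Group-like elements, primitives and Hopf subalgebras of cocommutative Hopf algebras. -/

set_option autoImplicit false
set_option backward.isDefEq.respectTransparency false
universe u v

open TensorProduct WithConv

noncomputable section

namespace Groth.Agent.CommUnip

open Groth.Agent.Comodule

variable {k : Type u} [Field k] {A : Type v} [CommRing A] [HopfAlgebra k A]

theorem smul_groupLike {g : A} (hg : IsGroupLikeElem k g) (f : WithConv (A →ₗ[k] k)) : f • g = f.ofConv g • g := by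
  rw [smul_regular, hg.comul_eq_tmul_self, rcon_tmul]

/-- A functional separating a group-like element from the others. -/
theorem exists_isolate {g₀ : A} (hg₀ : IsGroupLikeElem k g₀) :
    ∃ f : A →ₗ[k] k, f g₀ = 1 ∧ ∀ g, IsGroupLikeElem k g → g ≠ g₀ → f g = 0 := by
  classical
  have li := linearIndepOn_isGroupLikeElem (R := k) (A := A)
  let bb := Module.Basis.extend li
  have hb : ∀ g (hg : IsGroupLikeElem k g), g = bb ⟨g, LinearIndepOn.subset_extend li (Set.subset_univ _) hg⟩ :=
    fun g hg => by simp [bb, Module.Basis.extend_apply_self]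
  refine ⟨bb.coord ⟨g₀, LinearIndepOn.subset_extend li (Set.subset_univ _) hg₀⟩, ?_, fun g hg hne => ?_⟩
  · conv_lhs => arg 2; rw [hb g₀ hg₀]
    simp
  · conv_lhs => arg 2; rw [hb g hg]
    simp [Finsupp.single_apply, hne]

theorem groupLike_eq_one_of_mem_fil {g : A} (hg : IsGroupLikeElem k g) : ∀ {n : ℕ}, g ∈ fil k A A n → g = 1 := by
  intro n hn
  by_contra hne
  obtain ⟨f, hf, hf0⟩ := exists_isolate hg
  induction n with
  | zero => exact hg.ne_zero ((Submodule.mem_bot k).mp hn)
  | succ n ih =>
    refine ih ?_
    have h := mem_fil_succ.mp hn (toConv f) (hf0 1 IsGroupLikeElem.one (Ne.symm hne))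
    rw [smul_groupLike hg] at h
    simpa [hf] using h

theorem primitive_of_mem_span_groupLike {x : A} (hx : x ∈ Submodule.span k {g : A | IsGroupLikeElem k g})
    (hp : Coalgebra.comul (R := k) x = x ⊗ₜ[k] (1 : A) + (1 : A) ⊗ₜ[k] x) : x = 0 := by
  classical
  obtain ⟨c, rfl⟩ := Finsupp.mem_span_iff_linearCombination _ _ _ |>.mp hx
  have hc : ∀ g₀ : {g : A | IsGroupLikeElem k g}, (g₀ : A) ≠ 1 → c g₀ = 0 := by
    intro g₀ hne
    obtain ⟨f, hf, hf0⟩ := exists_isolate g₀.2
    have hf1 : f 1 = 0 := hf0 1 IsGroupLikeElem.one (Ne.symm hne)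
    have h1 : toConv f • Finsupp.linearCombination k Subtype.val c = c g₀ • (g₀ : A) := by
      rw [Finsupp.linearCombination_apply, Finsupp.sum, Finset.smul_sum, Finset.sum_eq_single g₀]
      · rw [smul_comm, smul_groupLike g₀.2, WithConv.ofConv_toConv, hf, one_smul]
      · intro g _ hg
        rw [smul_comm, smul_groupLike g.2, WithConv.ofConv_toConv, hf0 _ g.2 (fun h => hg (Subtype.ext h)),
          zero_smul, smul_zero]
      · intro h
        rw [Finsupp.notMem_support_iff.mp h, zero_smul, smul_zero]
    rw [smul_regular, hp, map_add, rcon_tmul, rcon_tmul, WithConv.ofConv_toConv, hf1, zero_smul, zero_add] at h1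
    obtain ⟨φ, hφg, hφ⟩ := exists_isolate g₀.2
    have h2 := congrArg φ h1
    rw [map_smul, map_smul, hφ 1 IsGroupLikeElem.one (Ne.symm hne), hφg, smul_zero, smul_eq_mul, mul_one] at h2
    exact h2.symm
  set x := Finsupp.linearCombination k Subtype.val c with hxdef
  let o : {g : A | IsGroupLikeElem k g} := ⟨1, IsGroupLikeElem.one⟩
  have hx1 : x = c o • (1 : A) := by
    rw [hxdef, Finsupp.linearCombination_apply, Finsupp.sum]
    refine Finset.sum_eq_single o (fun g _ hg => ?_) (fun h => ?_)
    · rw [hc g (fun h => hg (Subtype.ext h)), zero_smul]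
    · rw [Finsupp.notMem_support_iff.mp h, zero_smul]
  rw [hx1] at hp ⊢
  rw [map_smul, Bialgebra.comul_one, Algebra.TensorProduct.one_def, TensorProduct.tmul_smul,
    ← TensorProduct.smul_tmul', left_eq_add, ← Algebra.TensorProduct.one_def] at hp
  have := congrArg (LinearMap.mul' k A) hp
  simpa [Algebra.TensorProduct.one_def] using this

variable {B : Subalgebra k A} (hB : HopfFF.IsHopfSub (k := k) (A := A) B)

theorem mem_fil_sub (m : ℕ) (b : B) (hb : (b : A) ∈ fil k A A m) :
    letI := HopfPts.subHopfAlgebra hB
    b ∈ fil k B B m := by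
  letI := HopfPts.subHopfAlgebra hB
  induction m generalizing b with
  | zero =>
    rw [fil_zero, Submodule.mem_bot] at hb ⊢
    exact Subtype.ext hb
  | succ m ih =>
    refine mem_fil_succ.mpr fun f hf => ih _ ?_
    obtain ⟨p, hp⟩ := B.val.toLinearMap.exists_leftInverse_of_injective
      (LinearMap.ker_eq_bot.mpr Subtype.val_injective)
    have h1 := mem_fil_succ.mp hb (toConv (f.ofConv ∘ₗ p)) (by
      show f.ofConv (p (1 : A)) = 0
      have : p (1 : A) = 1 := LinearMap.congr_fun hp (1 : B)
      rw [this]
      exact hf)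
    have h2 : ((f • b : B) : A) = toConv (f.ofConv ∘ₗ p) • (b : A) := by
      rw [smul_regular, smul_regular, ← HopfPts.map_subComul hB b]
      show ((rcon f.ofConv (HopfPts.subComul hB b) : B) : A) = _
      induction HopfPts.subComul hB b with
      | zero => simp
      | add p q hp hq => simp only [map_add, Subalgebra.coe_add, hp, hq]
      | tmul x y =>
        have : p (y : A) = y := LinearMap.congr_fun hp y
        simp [rcon, this]
    rwa [h2]

theorem comul_sub (b : B) :
    letI := HopfPts.subHopfAlgebra hB
    Algebra.TensorProduct.map B.val B.val (Coalgebra.comul (R := k) b) = Coalgebra.comul (R := k) (b : A) :=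
  HopfPts.map_subComul hB b

theorem isCocomm_sub [Coalgebra.IsCocomm k A] :
    letI := HopfPts.subHopfAlgebra hB
    Coalgebra.IsCocomm k B := by
  letI := HopfPts.subHopfAlgebra hB
  refine ⟨LinearMap.ext fun b => HopfPts.map_val_injective B ?_⟩
  show Algebra.TensorProduct.map B.val B.val (TensorProduct.comm k B B (Coalgebra.comul (R := k) b)) = _
  have e : ∀ z : B ⊗[k] B, Algebra.TensorProduct.map B.val B.val (TensorProduct.comm k B B z) =
      TensorProduct.comm k A A (Algebra.TensorProduct.map B.val B.val z) := by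
    intro z
    induction z with
    | zero => simp
    | add p q hp hq => simp only [map_add, hp, hq]
    | tmul p q => simp
  rw [e, comul_sub hB, Coalgebra.comm_comul]

end Groth.Agent.CommUnip
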